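import Cfsg.Agent.Lib.Char.OrbitalMult
import Cfsg.Agent.Lib.Char.Clifford
import Cfsg.Agent.Lib.Char.Burnside
import Cfsg.Agent.Lib.Char.Ito
import Cfsg.Agent.Lib.Char.Degree
import Cfsg.Agent.Lib.Solvable.Basic
import Cfsg.Agent.Lib.SmallSimple.Sign
import Cfsg.Agent.Lib.Coprime.SchurZassenhaus
import Cfsg.Prelude.Def_DegreeGraph
import Cfsg.Agent.S0494

/-!
# The degree 5 character of `A₅`; groups of order 60 with a non-normal Sylow 5-subgroup
-/

set_option autoImplicit false

open MulAction Cfsg
open scoped ComplexConjugate Pointwise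

namespace Cfsg.Agent.Lib.PermRec.DegreeA5

universe u v

section Irr

open Cfsg.Agent.Lib.Char.Complete Cfsg.Agent.Lib.Char.OrbitalMult Cfsg.Agent.Lib.Char.Orbital
  Cfsg.Agent.Lib.Char.Clifford Cfsg.Agent.Lib.Char.Ortho

variable {G : Type u} [Group G] {Ω : Type v} [MulAction G Ω] [Fintype G] [Fintype Ω]
  [IsPretransitive G Ω]

/-- Rank two: the permutation character minus the trivial character is irreducible. -/
theorem isIrr_permChar_sub_one (a : Ω)
    (hrank : Nat.card (orbitRel.Quotient (stabilizer G a) Ω) = 2) :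
    IsIrrCharacter G ((fun g : G => (Nat.card (fixedBy Ω g) : ℂ)) - fun _ => 1) := by
  classical
  set π : G → ℂ := fun g : G => (Nat.card (fixedBy Ω g) : ℂ) with hπ
  have h1 : IsIrrCharacter G (fun _ : G => (1 : ℂ)) := Cfsg.Agent.Lib.Char.Burnside.isIrrCharacter_one
  have hπ1 : classInner π (fun _ => 1) = 1 := classInner_permChar_one a
  have hππ : classInner π π = 2 := by
    have := classInner_permChar_self (G := G) (Ω := Ω) a
    rw [hrank] at this
    exact_mod_cast this
  have h11 : classInner (fun _ : G => (1 : ℂ)) (fun _ => 1) = 1 := classInner_self_of_isIrr h1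
  have h1π : classInner (fun _ : G => (1 : ℂ)) π = 1 := by
    have h2 : classInner (fun _ : G => (1 : ℂ)) π = classInner π (fun _ => 1) := by
      unfold classInner
      congr 1
      apply Finset.sum_congr rfl
      intro g _
      simp [hπ]
    rw [h2, hπ1]
  refine isIrrCharacter_of_classInner_self_eq_one
    (isCharacter_sub_of_classInner_ne_zero isCharacter_permChar h1 (by rw [hπ1]; exact one_ne_zero)) ?_
  have hexp : classInner (π - fun _ => 1) (π - fun _ => 1) =
      classInner π π - classInner π (fun _ => 1) - classInner (fun _ : G => (1 : ℂ)) π +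
        classInner (fun _ : G => (1 : ℂ)) (fun _ => 1) := by
    unfold classInner
    rw [← mul_sub, ← mul_sub, ← mul_add, ← Finset.sum_sub_distrib, ← Finset.sum_sub_distrib,
      ← Finset.sum_add_distrib]
    congr 1
    apply Finset.sum_congr rfl
    intro g _
    simp only [Pi.sub_apply, map_sub, map_one]
    ring
  rw [hexp, hππ, hπ1, h1π, h11]
  norm_num

end Irr

section A5

local notation "A" => alternatingGroup (Fin 5)

theorem card_A5 : Nat.card A = 60 := by
  have h := two_mul_nat_card_alternatingGroup (α := Fin 5)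
  rw [Nat.card_perm, Nat.card_fin] at h
  have : (Nat.factorial 5) = 120 := rfl
  omega

instance fact5 : Fact (Nat.Prime 5) := ⟨by norm_num⟩

theorem card_sylow_five (P : Sylow 5 A) : Nat.card (P : Subgroup A) = 5 := by
  have h := P.card_eq_multiplicity
  rw [card_A5] at h
  have h2 : (60 : ℕ) = 5 ^ 1 * 12 := by norm_num
  rw [h, h2]
  have : ¬ 5 ∣ 12 := by norm_num
  rw [Nat.factorization_mul_of_coprime (by norm_num), Nat.Prime.factorization_pow (by norm_num)]
  simp [Nat.factorization_eq_zero_of_not_dvd this]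

theorem card_sylow_A5 : Nat.card (Sylow 5 A) = 6 := by
  classical
  obtain ⟨P⟩ : Nonempty (Sylow 5 A) := inferInstance
  have h1 := P.card_dvd_index
  have h2 := card_sylow_modEq_one 5 A
  have hc := card_sylow_five P
  have hi : (P : Subgroup A).index = 12 := by
    have := (P : Subgroup A).card_mul_index
    rw [card_A5, hc] at this
    omega
  rw [hi] at h1
  have hle := Nat.le_of_dvd (by norm_num) h1
  have hpos : 0 < Nat.card (Sylow 5 A) := Nat.card_pos
  have hne : Nat.card (Sylow 5 A) ≠ 1 := by
    intro hone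
    haveI : Subsingleton (Sylow 5 A) := (Nat.card_eq_one_iff_unique.1 hone).1
    have hn : (P : Subgroup A).Normal := Sylow.normal_of_subsingleton P
    haveI := alternatingGroup.isSimpleGroup_five
    rcases hn.eq_bot_or_eq_top with h | h
    · rw [h] at hc
      simp at hc
    · rw [h, Subgroup.card_top, card_A5] at hc
      omega
  have hmod : Nat.card (Sylow 5 A) % 5 = 1 := h2
  interval_cases hv : Nat.card (Sylow 5 A) <;> first | rfl | omega

theorem five_mem_degreePrimes : 5 ∈ degreePrimes A := by
  classical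
  letI : Fintype (Sylow 5 A) := Fintype.ofFinite _
  obtain ⟨P⟩ : Nonempty (Sylow 5 A) := inferInstance
  have hn := card_sylow_A5
  have hc := card_sylow_five P
  obtain ⟨Q, hQ⟩ : ∃ Q : Sylow 5 A, Q ≠ P := by
    by_contra hcon
    push Not at hcon
    have : Subsingleton (Sylow 5 A) := ⟨fun a b => by rw [hcon a, hcon b]⟩
    have h1 := Nat.card_of_subsingleton P
    omega
  have hrank : Nat.card (orbitRel.Quotient (stabilizer A P) (Sylow 5 A)) = 2 := by
    rw [Nat.card_eq_two_iff]
    refine ⟨Quotient.mk'' P, Quotient.mk'' Q, ?_, ?_⟩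
    · intro h
      have h1 := Quotient.eq''.1 h
      rw [orbitRel_apply] at h1
      obtain ⟨g, hg⟩ := h1
      apply hQ
      have h2 : (g : A) • Q = P := hg
      have hgP : (g : A) • P = P := g.2
      exact MulAction.injective (g : A) (h2.trans hgP.symm)
    · ext x
      simp only [Set.mem_insert_iff, Set.mem_singleton_iff, Set.mem_univ, iff_true]
      induction x using Quotient.inductionOn' with
      | h R =>
        by_cases hR : R = P
        · left
          rw [hR]
        · right
          obtain ⟨u, hu, huQ⟩ := Cfsg.Agent.Lib.SmallSimple.Sign.exists_smul_eq_of_card_eq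
            P hc hn R Q hR hQ
          apply Quotient.eq''.2
          rw [orbitRel_apply]
          have hstab : u ∈ stabilizer A P :=
            Sylow.smul_eq_iff_mem_normalizer.2 (Subgroup.le_normalizer hu)
          refine ⟨⟨u⁻¹, inv_mem hstab⟩, ?_⟩
          change u⁻¹ • Q = R
          rw [← huQ, inv_smul_smul]
  have hirr := isIrr_permChar_sub_one (G := A) (Ω := Sylow 5 A) P hrank
  refine ⟨by norm_num, 5, ⟨⟨_, hirr⟩, ?_⟩, dvd_rfl⟩
  apply Cfsg.Agent.Lib.Char.Degree.charDegree_eq_of_eq_natCast
  have h : Nat.card (fixedBy (Sylow 5 A) (1 : A)) = 6 := by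
    rw [fixedBy_one_eq_univ, Nat.card_coe_set_eq, Set.ncard_univ, hn]
  change ((Nat.card (fixedBy (Sylow 5 A) (1 : A)) : ℂ) - 1) = ((5 : ℕ) : ℂ)
  rw [h]
  norm_num

/-- A solvable group of order `5 m`, `m ∣ 12`, has a normal Sylow 5-subgroup. -/
theorem sylow5_normal : ∀ (m : ℕ) (H : Type u) [Group H] [Finite H] [Group.IsSolvable H], m ∣ 12 →
    Nat.card H = 5 * m → ∀ P : Sylow 5 H, (P : Subgroup H).Normal := by
  intro m
  induction m using Nat.strong_induction_on with
  | _ m ih =>
  intro H _ _ _ hm hcard P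
  classical
  have hm0 : 0 < m := Nat.pos_of_dvd_of_pos hm (by norm_num)
  have h5m : ¬ 5 ∣ m := fun h => absurd (h.trans hm) (by norm_num)
  have hfac : (5 * m).factorization 5 = 1 := by
    rw [Nat.factorization_mul (by norm_num) hm0.ne', Finsupp.add_apply,
      Nat.Prime.factorization_self (by norm_num), Nat.factorization_eq_zero_of_not_dvd h5m]
  have hSyl : ∀ Q : Sylow 5 H, Nat.card (Q : Subgroup H) = 5 := by
    intro Q
    have h := Q.card_eq_multiplicity
    rw [hcard, hfac, pow_one] at h
    exact h
  have hP := hSyl P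
  haveI : Nontrivial H := by
    apply Finite.one_lt_card_iff_nontrivial.1
    omega
  obtain ⟨N, p, hp, hNmin, hNc, hNe⟩ := Cfsg.Agent.Lib.Solvable.Basic.exists_normal_elemAbelian (G := H)
  haveI hNn : N.Normal := hNmin.1
  haveI := Fact.mk hp
  have hNp : IsPGroup p N := Cfsg.Agent.Lib.Solvable.Basic.isPGroup_of_pow_eq_one hNe
  obtain ⟨k, hk⟩ := IsPGroup.iff_card.1 hNp
  have hNdvd : Nat.card N ∣ 5 * m := by
    rw [← hcard]
    exact Subgroup.card_subgroup_dvd_card N
  have hNgt : 1 < Nat.card N := by
    have : Nontrivial N := (Subgroup.nontrivial_iff_ne_bot N).2 hNmin.2.1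
    exact Finite.one_lt_card
  have hk0 : k ≠ 0 := by
    rintro rfl
    rw [hk] at hNgt
    simp at hNgt
  by_cases hp5 : p = 5
  · -- the normal subgroup is a Sylow subgroup
    subst hp5
    have hk1 : k = 1 := by
      rw [hk] at hNdvd
      by_contra hne
      have h2 : 2 ≤ k := by omega
      have h3 : 5 ^ 2 ∣ 5 * m := (pow_dvd_pow 5 h2).trans hNdvd
      rw [pow_two] at h3
      exact h5m (Nat.dvd_of_mul_dvd_mul_left (by norm_num) h3)
    have hN5 : Nat.card N = 5 := by rw [hk, hk1, pow_one]
    have hNP : N ≤ (P : Subgroup H) := hNp.le_sylow_of_normal P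
    have hPN : (P : Subgroup H) = N := by
      symm
      apply Subgroup.eq_of_le_of_card_ge hNP
      rw [hP, hN5]
    rw [hPN]
    exact hNn
  · -- `p ≠ 5`: the quotient
    have hcop : Nat.Coprime (Nat.card N) 5 := by
      rw [hk]
      apply Nat.Coprime.pow_left
      exact (Nat.coprime_primes hp (by norm_num)).2 hp5
    have hNm : Nat.card N ∣ m := hcop.dvd_of_dvd_mul_left hNdvd
    obtain ⟨m', hm'⟩ := hNm
    have hm'dvd : m' ∣ 12 := (Dvd.intro_left _ hm'.symm).trans hm
    have hm'lt : m' < m := by
      rw [hm']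
      have : 0 < m' := Nat.pos_of_ne_zero (by
        rintro rfl
        omega)
      nlinarith
    have hNle : Nat.card N ∣ 12 := (Dvd.intro _ hm'.symm).trans hm
    have hNsmall : Nat.card N ≤ 4 := by
      have hle := Nat.le_of_dvd (by norm_num) hNle
      have h2 : ¬ (2 ∣ Nat.card N ∧ 3 ∣ Nat.card N) := by
        rintro ⟨h2, h3⟩
        rw [hk] at h2 h3
        have h4 := (Nat.prime_dvd_prime_iff_eq Nat.prime_two hp).1 (Nat.Prime.dvd_of_dvd_pow Nat.prime_two h2)
        have h5 := (Nat.prime_dvd_prime_iff_eq Nat.prime_three hp).1 (Nat.Prime.dvd_of_dvd_pow Nat.prime_three h3)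
        omega
      interval_cases hv : Nat.card N <;> first | omega | (exfalso; apply h2; constructor <;> norm_num) | (exfalso; revert hNle; norm_num)
    let π : H →* H ⧸ N := QuotientGroup.mk' N
    have hπs : Function.Surjective π := QuotientGroup.mk'_surjective N
    have hQcard : Nat.card (H ⧸ N) = 5 * m' := by
      have h1 := N.card_mul_index
      have h2 : N.index = Nat.card (H ⧸ N) := rfl
      rw [hcard, hm', h2] at h1
      have h3 : Nat.card N * Nat.card (H ⧸ N) = Nat.card N * (5 * m') := by rw [h1]; ring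
      exact Nat.eq_of_mul_eq_mul_left (by omega) h3
    have hIH := ih m' hm'lt (H ⧸ N) hm'dvd hQcard
    -- the image of `P`
    have hinf : (P : Subgroup H) ⊓ N = ⊥ := by
      rw [eq_bot_iff]
      intro x hx
      have h1 : orderOf x ∣ 5 := by
        rw [← hP, ← Nat.card_zpowers]
        exact Subgroup.card_dvd_of_le (by
          rw [Subgroup.zpowers_le]
          exact hx.1)
      have h2 : orderOf x ∣ Nat.card N := by
        have := Subgroup.orderOf_dvd_natCard N hx.2
        exact this
      have h3 := Nat.dvd_gcd h2 h1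
      rw [hcop] at h3
      have h4 := Nat.dvd_one.1 h3
      rw [orderOf_eq_one_iff] at h4
      exact Subgroup.mem_bot.2 h4
    have hker : π.ker = N := QuotientGroup.ker_mk' N
    have hmapcard : Nat.card ((P : Subgroup H).map π) = 5 := by
      have := Cfsg.Agent.Lib.Coprime.SchurZassenhaus.card_map_of_disjoint_ker π (P : Subgroup H)
        (by rw [hker]; exact hinf)
      rw [this, hP]
    have hm'0 : 0 < m' := by
      apply Nat.pos_of_ne_zero
      rintro rfl
      omega
    have h5m' : ¬ 5 ∣ m' := fun h => h5m (by rw [hm']; exact Dvd.dvd.mul_left h _)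
    have hfac' : (5 * m').factorization 5 = 1 := by
      rw [Nat.factorization_mul (by norm_num) hm'0.ne', Finsupp.add_apply,
        Nat.Prime.factorization_self (by norm_num), Nat.factorization_eq_zero_of_not_dvd h5m']
    let S : Sylow 5 (H ⧸ N) := Sylow.ofCard ((P : Subgroup H).map π) (by
      rw [hQcard, hfac', pow_one, hmapcard])
    have hSn : ((P : Subgroup H).map π).Normal := hIH S
    let M : Subgroup H := ((P : Subgroup H).map π).comap π
    have hMn : M.Normal := hSn.comap π
    have hPM : (P : Subgroup H) ≤ M := Subgroup.le_comap_map π _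
    have hMindex : M.index = m' := by
      have h1 : M.index = ((P : Subgroup H).map π).index := Subgroup.index_comap_of_surjective _ hπs
      have h2 := ((P : Subgroup H).map π).card_mul_index
      rw [hQcard, hmapcard] at h2
      rw [h1]
      exact Nat.eq_of_mul_eq_mul_left (by norm_num) h2
    have hMcard : Nat.card M = 5 * Nat.card N := by
      have h1 := M.card_mul_index
      rw [hMindex, hcard, hm'] at h1
      have h2 : Nat.card M * m' = (5 * Nat.card N) * m' := by rw [h1]; ring
      exact Nat.eq_of_mul_eq_mul_right hm'0 h2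
    -- Sylow 5-subgroups of `M`
    let PM : Sylow 5 M := P.subtype hPM
    have hPMcard : Nat.card (PM : Subgroup M) = 5 := by
      have h1 : (PM : Subgroup M) = (P : Subgroup H).subgroupOf M := Sylow.coe_subtype P hPM
      have h2 : Nat.card ((P : Subgroup H).subgroupOf M) = Nat.card (P : Subgroup H) :=
        Nat.card_congr (Subgroup.subgroupOfEquivOfLe hPM).toEquiv
      calc Nat.card (PM : Subgroup M) = Nat.card ((P : Subgroup H).subgroupOf M) := by rw [h1]
        _ = Nat.card (P : Subgroup H) := h2
        _ = 5 := hP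
    have hPMindex : (PM : Subgroup M).index = Nat.card N := by
      have h1 := (PM : Subgroup M).card_mul_index
      rw [hPMcard, hMcard] at h1
      exact Nat.eq_of_mul_eq_mul_left (by norm_num) h1
    have hn1 : Nat.card (Sylow 5 M) = 1 := by
      have h1 := PM.card_dvd_index
      rw [hPMindex] at h1
      have h2 := Nat.le_of_dvd (by omega) h1
      have h3 : Nat.card (Sylow 5 M) % 5 = 1 := card_sylow_modEq_one 5 M
      omega
    haveI hsub : Subsingleton (Sylow 5 M) := (Nat.card_eq_one_iff_unique.1 hn1).1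
    have hfix : ∀ g : H, g • P = P := by
      intro g
      have hgM : ((g • P : Sylow 5 H) : Subgroup H) ≤ M := by
        intro x hx
        rw [Sylow.coe_subgroup_smul, Subgroup.mem_pointwise_smul_iff_inv_smul_mem] at hx
        have h1 := hMn.conj_mem _ (hPM hx) g
        have h2 : g * ((MulAut.conj g)⁻¹ • x) * g⁻¹ = x := by
          simp [MulAut.smul_def]
          group
        rwa [h2] at h1
      exact Sylow.subtype_injective (Subsingleton.elim ((g • P).subtype hgM) (P.subtype hPM))
    have hnorm : ∀ g : H, g ∈ Subgroup.normalizer ((P : Subgroup H) : Set H) := fun g =>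
      Sylow.smul_eq_iff_mem_normalizer.1 (hfix g)
    exact ⟨fun n hn g => (Subgroup.mem_normalizer_iff.1 (hnorm g) n).1 hn⟩

end A5

section Main

/-- A group of order a proper divisor of 60 is solvable. -/
theorem solvable_of_card_dvd (H : Type u) [Group H] [Finite H] (hd : Nat.card H ∣ 60)
    (hlt : Nat.card H < 60) : Group.IsSolvable H := by
  have hP2 : Nat.Prime 2 := Nat.prime_two
  have hP3 : Nat.Prime 3 := Nat.prime_three
  have hP5 : Nat.Prime 5 := Nat.prime_five
  have hpos : 0 < Nat.card H := Nat.card_pos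
  have hcases : Nat.card H = 1 ∨ Nat.card H = 2 ∨ Nat.card H = 3 ∨ Nat.card H = 4 ∨
      Nat.card H = 5 ∨ Nat.card H = 6 ∨ Nat.card H = 10 ∨ Nat.card H = 12 ∨ Nat.card H = 15 ∨
      Nat.card H = 20 ∨ Nat.card H = 30 := by
    generalize Nat.card H = d at *
    interval_cases d <;> first | omega | (exfalso; revert hd; decide)
  rcases hcases with h | h | h | h | h | h | h | h | h | h | h
  · exact Cfsg.Agent.Lib.Char.Burnside.isSolvable_of_card_eq 2 3 0 0 hP2 hP3 (by rw [h]; norm_num)
  · exact Cfsg.Agent.Lib.Char.Burnside.isSolvable_of_card_eq 2 3 1 0 hP2 hP3 (by rw [h]; norm_num)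
  · exact Cfsg.Agent.Lib.Char.Burnside.isSolvable_of_card_eq 2 3 0 1 hP2 hP3 (by rw [h]; norm_num)
  · exact Cfsg.Agent.Lib.Char.Burnside.isSolvable_of_card_eq 2 3 2 0 hP2 hP3 (by rw [h]; norm_num)
  · exact Cfsg.Agent.Lib.Char.Burnside.isSolvable_of_card_eq 5 3 1 0 hP5 hP3 (by rw [h]; norm_num)
  · exact Cfsg.Agent.Lib.Char.Burnside.isSolvable_of_card_eq 2 3 1 1 hP2 hP3 (by rw [h]; norm_num)
  · exact Cfsg.Agent.Lib.Char.Burnside.isSolvable_of_card_eq 2 5 1 1 hP2 hP5 (by rw [h]; norm_num)
  · exact Cfsg.Agent.Lib.Char.Burnside.isSolvable_of_card_eq 2 3 2 1 hP2 hP3 (by rw [h]; norm_num)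
  · exact Cfsg.Agent.Lib.Char.Burnside.isSolvable_of_card_eq 3 5 1 1 hP3 hP5 (by rw [h]; norm_num)
  · exact Cfsg.Agent.Lib.Char.Burnside.isSolvable_of_card_eq 2 5 2 1 hP2 hP5 (by rw [h]; norm_num)
  · haveI : IsZGroup H := IsZGroup.of_squarefree (by
      rw [h, show (30 : ℕ) = 2 * (3 * 5) by norm_num,
        Nat.squarefree_mul (by norm_num), Nat.squarefree_mul (by norm_num)]
      exact ⟨hP2.prime.squarefree, hP3.prime.squarefree, hP5.prime.squarefree⟩)
    infer_instance

/-- A nonsolvable group of order 60 is simple. -/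
theorem isSimple_of_not_solvable (G : Type u) [Group G] [Finite G] (hcard : Nat.card G = 60)
    (hsolv : ¬ Group.IsSolvable G) : IsSimpleGroup G := by
  haveI : Nontrivial G := by
    rw [← Finite.one_lt_card_iff_nontrivial, hcard]; norm_num
  refine ⟨fun N hN => ?_⟩
  by_contra hcon
  push Not at hcon
  obtain ⟨hbot, htop⟩ := hcon
  have h1 := N.card_mul_index
  rw [hcard, Subgroup.index_eq_card] at h1
  have hNlt : Nat.card N < 60 := by
    have hle := Subgroup.card_le_card_group N
    rw [hcard] at hle
    refine lt_of_le_of_ne hle fun h => htop ?_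
    exact Subgroup.eq_top_of_card_eq _ (by rw [h, hcard])
  have hNgt : 1 < Nat.card N := by
    have hp : 0 < Nat.card N := Nat.card_pos
    refine lt_of_le_of_ne hp fun h => hbot ?_
    exact Subgroup.eq_bot_of_card_eq _ h.symm
  have hQlt : Nat.card (G ⧸ N) < 60 := by
    have hQp : 0 < Nat.card (G ⧸ N) := Nat.card_pos
    nlinarith
  haveI hsN : Group.IsSolvable N := solvable_of_card_dvd N ⟨_, h1.symm⟩ hNlt
  haveI hsQ : Group.IsSolvable (G ⧸ N) :=
    solvable_of_card_dvd (G ⧸ N) ⟨_, (by rw [mul_comm]; exact h1.symm)⟩ hQlt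
  exact hsolv (Group.isSolvable_of_ker_le_range N.subtype (QuotientGroup.mk' N) (by
    rw [QuotientGroup.ker_mk', Subgroup.range_subtype]))

/-- The main theorem: a group of order 60 having 5 as a character degree prime and ... -/
theorem nonempty_mulEquiv_A5 {G : Type u} [Group G] [Finite G] (hcard : Nat.card G = 60)
    (hΓ : degreePrimes G = degreePrimes (alternatingGroup (Fin 5))) :
    Nonempty (G ≃* alternatingGroup (Fin 5)) := by
  by_cases hsolv : Group.IsSolvable G
  · exfalso
    haveI := hsolv
    obtain ⟨P⟩ : Nonempty (Sylow 5 G) := inferInstance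
    have h5 : 5 ∈ degreePrimes G := hΓ ▸ five_mem_degreePrimes
    obtain ⟨-, d, ⟨⟨χ, n, ρ, hρ, hχ⟩, hd⟩, h5d⟩ := h5
    haveI := hρ
    haveI hPn : (P : Subgroup G).Normal := sylow5_normal 12 G (dvd_refl _) (by rw [hcard]) P
    haveI : Fact (Nat.Prime 5) := ⟨Nat.prime_five⟩
    have hPcard : Nat.card (P : Subgroup G) = 5 := by
      have hfac : (60 : ℕ).factorization 5 = 1 := by
        have : (60 : ℕ) = 5 * 12 := by norm_num
        rw [this, Nat.factorization_mul (by norm_num) (by norm_num), Finsupp.add_apply,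
          Nat.Prime.factorization_self (by norm_num), Nat.factorization_eq_zero_of_not_dvd (by norm_num)]
      rw [P.card_eq_multiplicity, hcard, hfac, pow_one]
    haveI : IsCyclic (P : Subgroup G) := isCyclic_of_prime_card hPcard
    have habel : ∀ a ∈ (P : Subgroup G), ∀ b ∈ (P : Subgroup G), a * b = b * a := by
      intro a ha b hb
      letI : CommGroup (P : Subgroup G) := IsCyclic.commGroup
      have := mul_comm (⟨a, ha⟩ : (P : Subgroup G)) ⟨b, hb⟩
      exact congrArg Subtype.val this
    have hdeg := Cfsg.Agent.Lib.Char.Ito.finrank_dvd_index_of_abelian_normal ρ (P : Subgroup G) habel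
    have hidx : (P : Subgroup G).index = 12 := by
      have h1 := (P : Subgroup G).card_mul_index
      rw [hPcard, hcard] at h1
      omega
    rw [hidx] at hdeg
    have h2 : charDegree χ = Module.finrank ℂ (Fin n → ℂ) := by
      rw [← hχ]; exact Cfsg.Agent.Lib.Char.Degree.charDegree_character ρ
    simp only at hd
    rw [h2] at hd
    rw [← hd] at h5d
    have : (5 : ℕ) ∣ 12 := h5d.trans hdeg
    omega
  · haveI := isSimple_of_not_solvable G hcard hsolv
    exact Cfsg.Agent.S0494.result hcard

end Main

end Cfsg.Agent.Lib.PermRec.DegreeA5
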