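import Mathlib

set_option autoImplicit false

namespace Cfsg.Agent.Lib.PermRec.Derangements

open MulAction Pointwise

variable {G X : Type*} [Group G] [Finite G] [MulAction G X] [Finite X]

omit [Finite G] [Finite X] in
/-- Number of fixed points, as a finset card. -/
theorem card_fixedBy_eq [Fintype X] [DecidableEq X] (g : G) :
    Nat.card (fixedBy X g) = (Finset.univ.filter fun x : X => g • x = x).card := by
  classical
  rw [Nat.card_eq_fintype_card, ← Fintype.card_subtype]
  rfl

omit [Finite G] [Finite X] in
theorem pretransitive_of_orbit_subsingleton (h : IsPretransitive G X) :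
    Subsingleton (orbitRel.Quotient G X) :=
  (pretransitive_iff_subsingleton_quotient G X).mp h

omit [Finite G] in
/-- Burnside's orbit counting for `Nat.card`. -/
theorem sum_card_fixedBy [Fintype G] :
    ∑ g : G, Nat.card (fixedBy X g) = Nat.card (orbitRel.Quotient G X) * Nat.card G := by
  classical
  let := Fintype.ofFinite X
  let : Fintype (orbitRel.Quotient G X) := Fintype.ofFinite _
  have := MulAction.sum_card_fixedBy_eq_card_orbits_mul_card_group G X
  simp only [Nat.card_eq_fintype_card]
  convert this

/-- Jordan's lemma: a transitive action on at least two points has a fixed-point-free element. -/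
theorem exists_forall_smul_ne (htrans : IsPretransitive G X) (hX : 2 ≤ Nat.card X) :
    ∃ g : G, ∀ x : X, g • x ≠ x := by
  classical
  let := Fintype.ofFinite G
  let := Fintype.ofFinite X
  by_contra hcon
  push Not at hcon
  have hB := sum_card_fixedBy (G := G) (X := X)
  have hne : Nonempty X := by
    by_contra h
    rw [not_nonempty_iff] at h
    rw [Nat.card_of_isEmpty] at hX
    omega
  have h1 : Nat.card (orbitRel.Quotient G X) = 1 := by
    have := pretransitive_of_orbit_subsingleton (G := G) (X := X) htrans
    have : Nonempty (orbitRel.Quotient G X) := hne.map (Quotient.mk _)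
    exact Nat.card_unique
  rw [h1, one_mul] at hB
  have hpos : ∀ g : G, 1 ≤ Nat.card (fixedBy X g) := by
    intro g
    obtain ⟨x, hx⟩ := hcon g
    have : Nonempty (fixedBy X g) := ⟨⟨x, hx⟩⟩
    exact Nat.card_pos
  have h2 : ∑ g : G, 1 < ∑ g : G, Nat.card (fixedBy X g) := by
    apply Finset.sum_lt_sum (fun g _ => hpos g)
    refine ⟨1, Finset.mem_univ _, ?_⟩
    have : Nat.card (fixedBy X (1 : G)) = Nat.card X := by
      rw [fixedBy_one_eq_univ]
      exact Nat.card_univ
    omega
  simp only [Finset.sum_const, Finset.card_univ, smul_eq_mul, mul_one] at h2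
  rw [hB, Nat.card_eq_fintype_card] at h2
  exact lt_irrefl _ h2

variable (G X) in
/-- The subgroup generated by the derangements. -/
abbrev derangementSubgroup : Subgroup G := Subgroup.closure {g : G | ∀ ω : X, g • ω ≠ ω}

omit [Finite G] [Finite X] in
theorem derangementSubgroup_normal : (derangementSubgroup G X).Normal := by
  constructor
  intro n hn g
  induction hn using Subgroup.closure_induction with
  | mem x hx =>
    apply Subgroup.subset_closure
    intro ω h
    apply hx (g⁻¹ • ω)
    rw [mul_smul, mul_smul, smul_eq_iff_eq_inv_smul] at h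
    exact h
  | one => simp
  | mul x y _ _ hx hy =>
    have : g * (x * y) * g⁻¹ = (g * x * g⁻¹) * (g * y * g⁻¹) := by group
    rw [this]
    exact Subgroup.mul_mem _ hx hy
  | inv x _ hx =>
    have : g * x⁻¹ * g⁻¹ = (g * x * g⁻¹)⁻¹ := by group
    rw [this]
    exact Subgroup.inv_mem _ hx

omit [Finite G] [Finite X] in
theorem mem_of_forall_ne {g : G} (h : ∀ ω : X, g • ω ≠ ω) : g ∈ derangementSubgroup G X :=
  Subgroup.subset_closure h

omit [Finite X] in
/-- The derangement subgroup of a transitive group is transitive. -/
theorem derangementSubgroup_pretransitive (htrans : IsPretransitive G X) :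
    IsPretransitive (derangementSubgroup G X) X := by
  classical
  refine ⟨fun x y => ?_⟩
  let H : Subgroup G := derangementSubgroup G X ⊔ stabilizer G x
  have hH : H = ⊤ := by
    by_contra hne
    have hidx : 2 ≤ Nat.card (G ⧸ H) := by
      have h1 : H.index ≠ 1 := fun h => hne (Subgroup.index_eq_one.mp h)
      have h2 : H.index ≠ 0 := Subgroup.index_ne_zero_of_finite
      have : H.index = Nat.card (G ⧸ H) := rfl
      omega
    obtain ⟨g, hg⟩ := exists_forall_smul_ne (G := G) (X := G ⧸ H) inferInstance hidx
    have hgd : ∀ ω : X, g • ω ≠ ω := by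
      intro ω hω
      obtain ⟨h, rfl⟩ := htrans.exists_smul_eq x ω
      apply hg (QuotientGroup.mk h)
      have h1 : h⁻¹ * g * h ∈ stabilizer G x := by
        rw [mem_stabilizer_iff, mul_smul, mul_smul, hω, inv_smul_smul]
      have h2 : h⁻¹ * g * h ∈ H := (le_sup_right : stabilizer G x ≤ H) h1
      rw [MulAction.Quotient.smul_mk, QuotientGroup.eq]
      simp only [smul_eq_mul]
      have : (g * h)⁻¹ * h = (h⁻¹ * g * h)⁻¹ := by group
      rw [this]
      exact H.inv_mem h2
    have hgD : g ∈ H := (le_sup_left : derangementSubgroup G X ≤ H) (mem_of_forall_ne hgd)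
    apply hg (QuotientGroup.mk 1)
    rw [MulAction.Quotient.smul_mk, QuotientGroup.eq]
    simp only [smul_eq_mul, mul_one]
    exact H.inv_mem hgD
  obtain ⟨g, rfl⟩ := htrans.exists_smul_eq x y
  have hg : g ∈ H := by rw [hH]; exact Subgroup.mem_top g
  have := derangementSubgroup_normal (G := G) (X := X)
  have hg' : g ∈ ((derangementSubgroup G X ⊔ stabilizer G x : Subgroup G) : Set G) := hg
  rw [Subgroup.normal_mul] at hg'
  obtain ⟨d, hd, s, hs, rfl⟩ := Set.mem_mul.mp hg'
  refine ⟨⟨d, hd⟩, ?_⟩
  rw [mul_smul, (mem_stabilizer_iff.mp hs)]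
  rfl

/-- Coset average: if `D` is transitive on `X` then the elements of a coset `gD` have on average
one fixed point. -/
theorem sum_card_fixedBy_coset [Nonempty X] (D : Subgroup G) (hD : IsPretransitive D X) (g : G)
    [Fintype D] :
    ∑ d : D, Nat.card (fixedBy X (g * d)) = Nat.card D := by
  classical
  let := Fintype.ofFinite X
  -- each fibre of `d ↦ d • x` has the same size
  have hfib : ∀ x y : X, (Finset.univ.filter fun d : D => d • x = y).card * Nat.card X = Nat.card D := by
    intro x y
    have h1 : ∀ y' : X, (Finset.univ.filter fun d : D => d • x = y').card =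
        (Finset.univ.filter fun d : D => d • x = y).card := by
      intro y'
      obtain ⟨d0, rfl⟩ := hD.exists_smul_eq y y'
      apply Finset.card_bij (fun d _ => d0⁻¹ * d)
      · intro d hd
        simp only [Finset.mem_filter, Finset.mem_univ, true_and] at hd ⊢
        rw [mul_smul, hd, inv_smul_smul]
      · intro a _ b _ h
        exact mul_left_cancel h
      · intro d hd
        simp only [Finset.mem_filter, Finset.mem_univ, true_and] at hd
        refine ⟨d0 * d, ?_, by simp⟩
        simp only [Finset.mem_filter, Finset.mem_univ, true_and]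
        rw [mul_smul, hd]
    have h2 : ∑ y' : X, (Finset.univ.filter fun d : D => d • x = y').card = Fintype.card D := by
      rw [← Finset.card_univ]
      exact (Finset.card_eq_sum_card_fiberwise (f := fun d : D => d • x) (t := Finset.univ)
        (fun _ _ => Finset.mem_univ _)).symm
    simp only [h1, Finset.sum_const, Finset.card_univ, smul_eq_mul] at h2
    rw [Nat.card_eq_fintype_card, Nat.card_eq_fintype_card, mul_comm]
    exact h2
  have hfixsum : ∑ d : D, Nat.card (fixedBy X (g * d)) =
      ∑ x : X, (Finset.univ.filter fun d : D => d • x = g⁻¹ • x).card := by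
    simp only [card_fixedBy_eq, Finset.card_filter]
    rw [Finset.sum_comm]
    refine Finset.sum_congr rfl fun x _ => Finset.sum_congr rfl fun d _ => ?_
    have : ((g * (d : G)) • x = x) ↔ (d • x = g⁻¹ • x) := by
      rw [mul_smul, ← smul_eq_iff_eq_inv_smul]
      rfl
    simp only [this]
  rw [hfixsum]
  have hpos : 0 < Nat.card X := Nat.card_pos
  apply Nat.eq_of_mul_eq_mul_right hpos
  rw [Finset.sum_mul]
  simp only [hfib, Finset.sum_const, Finset.card_univ, smul_eq_mul]
  rw [Nat.card_eq_fintype_card (α := X), mul_comm]

/-- If `D` is transitive on `X` and every element of the coset `gD` has a fixed point then `g` has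
exactly one fixed point. -/
theorem card_fixedBy_eq_one [Nonempty X] (D : Subgroup G) (hD : IsPretransitive D X) (g : G)
    (h : ∀ d ∈ D, ∃ x : X, (g * d) • x = x) : Nat.card (fixedBy X g) = 1 := by
  classical
  let : Fintype D := Fintype.ofFinite _
  have hsum := sum_card_fixedBy_coset D hD g
  have hpos : ∀ d : D, 1 ≤ Nat.card (fixedBy X (g * (d : G))) := by
    intro d
    obtain ⟨x, hx⟩ := h d d.2
    have : Nonempty (fixedBy X (g * (d : G))) := ⟨⟨x, hx⟩⟩
    exact Nat.card_pos
  have heq : ∑ d : D, 1 = ∑ d : D, Nat.card (fixedBy X (g * (d : G))) := by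
    rw [hsum]
    simp [Nat.card_eq_fintype_card]
  have hall := (Finset.sum_eq_sum_iff_of_le (fun d _ => hpos d)).mp heq
  have := hall 1 (Finset.mem_univ _)
  simpa using this.symm

/-- Elements outside the derangement subgroup have exactly one fixed point. -/
theorem card_fixedBy_eq_one_of_notMem (htrans : IsPretransitive G X) {g : G}
    (hg : g ∉ derangementSubgroup G X) : Nat.card (fixedBy X g) = 1 := by
  classical
  have hne : Nonempty X := by
    by_contra h
    rw [not_nonempty_iff] at h
    exact hg (mem_of_forall_ne (fun ω => isEmptyElim ω))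
  refine card_fixedBy_eq_one _ (derangementSubgroup_pretransitive htrans) g ?_
  intro d hd
  by_contra hcon
  push Not at hcon
  apply hg
  have h1 : g * d ∈ derangementSubgroup G X := mem_of_forall_ne hcon
  have := Subgroup.mul_mem _ h1 (Subgroup.inv_mem _ hd)
  simpa using this

/-- An action in which all point stabilisers lie in a subgroup `C`: the index of `C` divides the
number of points. -/
theorem index_dvd_card_of_stabilizer_le {A Y : Type*} [Group A] [Finite A] [MulAction A Y] [Finite Y]
    (C : Subgroup A) (h : ∀ y : Y, stabilizer A y ≤ C) : C.index ∣ Nat.card Y := by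
  classical
  let : Fintype (orbitRel.Quotient A Y) := Fintype.ofFinite _
  rw [Nat.card_congr (selfEquivSigmaOrbits A Y), Nat.card_sigma]
  refine Finset.dvd_sum fun ω _ => ?_
  have h1 : Nat.card (orbit A (Quotient.out ω)) = (stabilizer A (Quotient.out ω)).index := by
    rw [index_stabilizer]
    rfl
  rw [h1]
  exact Subgroup.index_dvd_of_le (h _)

omit [Finite X] in
/-- When a normal subgroup `D` is transitive, `G = D G_a`, so `[G_a : G_a ∩ D] = [G : D]`. -/
theorem index_subgroupOf_stabilizer (D : Subgroup G) [D.Normal] (hD : IsPretransitive D X) (a : X) :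
    (D.subgroupOf (stabilizer G a)).index = D.index := by
  have htop : stabilizer G a ⊔ D = ⊤ := by
    rw [eq_top_iff]
    intro g _
    obtain ⟨d, hd⟩ := hD.exists_smul_eq (g • a) a
    have hd' : (d : G) • g • a = a := hd
    rw [Subgroup.mem_sup_of_normal_right]
    refine ⟨(d : G) * g, ?_, g⁻¹ * (d : G)⁻¹ * g, ?_, ?_⟩
    · rw [mem_stabilizer_iff, mul_smul]
      exact hd'
    · have := ‹D.Normal›.conj_mem _ (D.inv_mem d.2) g⁻¹
      simpa using this
    · group
  have := Subgroup.relIndex_sup_right (stabilizer G a) D
  rw [htop, Subgroup.relIndex_top_right] at this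
  exact this.symm

/-- Two distinct fixed points force membership in `D` when elements outside `D` have exactly one
fixed point. -/
theorem mem_of_two_fixed {Y : Type*} [MulAction G Y] [Finite Y] (D : Subgroup G)
    (h1 : ∀ g, g ∉ D → Nat.card (fixedBy Y g) = 1) {g : G} {a b : Y} (hab : a ≠ b)
    (ha : g • a = a) (hb : g • b = b) : g ∈ D := by
  by_contra hg
  have hc := h1 g hg
  rw [Nat.card_eq_one_iff_unique] at hc
  have := hc.1.elim ⟨a, ha⟩ ⟨b, hb⟩
  exact hab (congrArg Subtype.val this)

/-- If `D` is a normal transitive subgroup and elements outside `D` have exactly one fixed point,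
then `[G : D]` divides `|Y| - 1`. -/
theorem index_dvd_card_sub_one {Y : Type*} [MulAction G Y] [Finite Y] (D : Subgroup G) [D.Normal]
    (hD : IsPretransitive D Y) (h1 : ∀ g, g ∉ D → Nat.card (fixedBy Y g) = 1) (a : Y) :
    D.index ∣ Nat.card Y - 1 := by
  classical
  rw [← index_subgroupOf_stabilizer D hD a, ← SubMulAction.nat_card_ofStabilizer_eq G a]
  apply index_dvd_card_of_stabilizer_le
  rintro ⟨y, hy⟩ ⟨h, hh⟩ hfix
  rw [Subgroup.mem_subgroupOf]
  refine mem_of_two_fixed D h1 (a := a) (b := y) (Ne.symm hy) hh ?_
  have := congrArg Subtype.val (mem_stabilizer_iff.mp hfix)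
  exact this

/-- Rank formula. -/
theorem rank_formula (htrans : IsPretransitive G X) :
    Nat.card (orbitRel.Quotient (derangementSubgroup G X) (X × X)) - 1 =
      (Nat.card (orbitRel.Quotient G (X × X)) - 1) * (derangementSubgroup G X).index := by
  classical
  let := Fintype.ofFinite G
  let := Fintype.ofFinite X
  set D := derangementSubgroup G X with hD
  let : Fintype D := Fintype.ofFinite _
  have hfix : ∀ g : G, Nat.card (fixedBy (X × X) g) = Nat.card (fixedBy X g) ^ 2 := by
    intro g
    rw [sq, ← Nat.card_prod]
    refine Nat.card_congr ⟨fun p => ⟨⟨p.1.1, congrArg Prod.fst p.2⟩, ⟨p.1.2, congrArg Prod.snd p.2⟩⟩,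
      fun q => ⟨(q.1.1, q.2.1), Prod.ext q.1.2 q.2.2⟩, fun _ => rfl, fun _ => rfl⟩
  have hG := sum_card_fixedBy (G := G) (X := X × X)
  have hDs := sum_card_fixedBy (G := D) (X := X × X)
  have hDs' : ∑ d : D, Nat.card (fixedBy (X × X) (d : G)) =
      Nat.card (orbitRel.Quotient D (X × X)) * Nat.card D := hDs
  have hsplit := Finset.sum_filter_add_sum_filter_not Finset.univ (· ∈ D)
    (fun g : G => Nat.card (fixedBy (X × X) g))
  have hin : ∑ g ∈ Finset.univ.filter (· ∈ D), Nat.card (fixedBy (X × X) g) =
      ∑ d : D, Nat.card (fixedBy (X × X) (d : G)) :=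
    Finset.sum_subtype _ (by simp) _
  have hout : ∑ g ∈ Finset.univ.filter (· ∉ D), Nat.card (fixedBy (X × X) g) =
      (Finset.univ.filter (· ∉ D)).card := by
    rw [Finset.card_eq_sum_ones]
    refine Finset.sum_congr rfl fun g hg => ?_
    have hgD : g ∉ D := (Finset.mem_filter.mp hg).2
    rw [hfix, card_fixedBy_eq_one_of_notMem htrans hgD]
    rfl
  have hcard : (Finset.univ.filter (· ∈ D)).card + (Finset.univ.filter (· ∉ D)).card = Nat.card G := by
    rw [Finset.card_filter_add_card_filter_not, Nat.card_eq_fintype_card]
    rfl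
  have hcardD : (Finset.univ.filter (· ∈ D)).card = Nat.card D := by
    rw [Nat.card_eq_fintype_card, Fintype.card_subtype]
  have hindex : Nat.card D * D.index = Nat.card G := Subgroup.card_mul_index D
  rw [hin, hout, hDs', hG] at hsplit
  set rG := Nat.card (orbitRel.Quotient G (X × X))
  set rD := Nat.card (orbitRel.Quotient D (X × X))
  set out := (Finset.univ.filter (· ∉ D)).card
  rw [hcardD] at hcard
  have hpos : 0 < Nat.card D := Nat.card_pos
  have hi : 1 ≤ D.index := Nat.pos_of_ne_zero Subgroup.index_ne_zero_of_finite
  -- rD |D| + out = rG |G|, |D| + out = |G|, |G| = |D| i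
  have key : (rD + D.index) * Nat.card D = (rG * D.index + 1) * Nat.card D := by
    have e1 : rG * Nat.card G = rG * (Nat.card D * D.index) := by rw [hindex]
    nlinarith
  have key2 : rD + D.index = rG * D.index + 1 := Nat.eq_of_mul_eq_mul_right hpos key
  rcases hr : rG with _ | m
  · rw [hr] at key2
    simp only [zero_mul, zero_add] at key2
    have : rD = 0 := by omega
    simp [this]
  · rw [hr] at key2
    have : rD = m * D.index + 1 := by
      have e : (m + 1) * D.index = m * D.index + D.index := by ring
      omega
    rw [this]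
    simp

end Cfsg.Agent.Lib.PermRec.Derangements
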