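import Mathlib.GroupTheory.GroupAction.Jordan
import Mathlib.GroupTheory.SpecificGroups.Alternating
import Mathlib.Data.Fintype.CardEmbedding

/-!
# Bochert's bound for primitive groups

If two non-identity elements have supports meeting in exactly one point, then their commutator is a
3-cycle, and a primitive group containing a 3-cycle contains the alternating group.  Otherwise the
family of supports has "property B", so there is a base of at most `n/2` points.
-/

set_option autoImplicit false

open MulAction Equiv

namespace Cfsg.Agent.Lib.PermRec.Bochert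

universe u v

/-- A family of sets of size `≥ 2`, no two meeting in exactly one point, has property B. -/
theorem property_B {Ω : Type*} [Fintype Ω] [DecidableEq Ω] (𝒮 : Set (Finset Ω))
    (h2 : ∀ S ∈ 𝒮, 2 ≤ S.card) (h1 : ∀ S ∈ 𝒮, ∀ S' ∈ 𝒮, (S ∩ S').card ≠ 1) :
    ∃ c : Ω → Bool, ∀ S ∈ 𝒮, ∃ x ∈ S, ∃ y ∈ S, c x ≠ c y := by
  classical
  have key : ∀ T : Finset Ω, ∃ c : Ω → Bool, ∀ S ∈ 𝒮, S ⊆ T → ∃ x ∈ S, ∃ y ∈ S, c x ≠ c y := by
    intro T
    induction T using Finset.induction_on with
    | empty =>
      refine ⟨fun _ => true, fun S hS hsub => ?_⟩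
      have := h2 S hS
      rw [Finset.subset_empty.1 hsub] at this
      simp at this
    | insert a T ha ih =>
      obtain ⟨c, hc⟩ := ih
      -- mono sets through `a`
      let Mono : Finset Ω → Bool → Prop := fun S b => S ∈ 𝒮 ∧ a ∈ S ∧ S ⊆ insert a T ∧
        ∀ x ∈ S, x ≠ a → c x = b
      have huniq : ∀ S S' b b', Mono S b → Mono S' b' → b = b' := by
        intro S S' b b' hS hS'
        obtain ⟨h3, h4, _, h6⟩ := hS
        obtain ⟨h3', h4', _, h6'⟩ := hS'
        have hne := h1 S h3 S' h3'
        have hmem : a ∈ S ∩ S' := Finset.mem_inter.2 ⟨h4, h4'⟩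
        have hcard : 1 < (S ∩ S').card := by
          have hpos : 0 < (S ∩ S').card := Finset.card_pos.2 ⟨a, hmem⟩
          omega
        obtain ⟨x, hx, y, hy, hxy⟩ := Finset.one_lt_card.1 hcard
        have : ∃ z ∈ S ∩ S', z ≠ a := by
          by_cases hxa : x = a
          · exact ⟨y, hy, fun h => hxy (hxa.trans h.symm)⟩
          · exact ⟨x, hx, hxa⟩
        obtain ⟨z, hz, hza⟩ := this
        rw [Finset.mem_inter] at hz
        rw [← h6 z hz.1 hza, h6' z hz.2 hza]
      -- the new colour
      let b₀ : Bool := if ∃ S, Mono S true then false else true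
      refine ⟨Function.update c a b₀, fun S hS hsub => ?_⟩
      by_cases haS : a ∈ S
      · by_cases hmono : ∃ b, ∀ x ∈ S, x ≠ a → c x = b
        · obtain ⟨b, hb⟩ := hmono
          have hM : Mono S b := ⟨hS, haS, hsub, hb⟩
          -- another point
          have hcard := h2 S hS
          obtain ⟨z, hz, hza⟩ : ∃ z ∈ S, z ≠ a := by
            obtain ⟨x, hx, y, hy, hxy⟩ := Finset.one_lt_card.1 (by omega : 1 < S.card)
            by_cases hxa : x = a
            · exact ⟨y, hy, fun h => hxy (hxa.trans h.symm)⟩
            · exact ⟨x, hx, hxa⟩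
          refine ⟨a, haS, z, hz, ?_⟩
          rw [Function.update_self, Function.update_of_ne hza, hb z hz hza]
          cases b with
          | true =>
            have : ∃ S, Mono S true := ⟨S, hM⟩
            simp [b₀, this]
          | false =>
            have : ¬ ∃ S, Mono S true := by
              rintro ⟨S', hS'⟩
              exact absurd (huniq _ _ _ _ hM hS') (by simp)
            simp [b₀, this]
        · push Not at hmono
          -- two points of different colour in `S \ {a}`
          obtain ⟨z, hz, hza⟩ : ∃ z ∈ S, z ≠ a := by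
            have hcard := h2 S hS
            obtain ⟨x, hx, y, hy, hxy⟩ := Finset.one_lt_card.1 (by omega : 1 < S.card)
            by_cases hxa : x = a
            · exact ⟨y, hy, fun h => hxy (hxa.trans h.symm)⟩
            · exact ⟨x, hx, hxa⟩
          obtain ⟨w, hw, hwa, hwz⟩ := hmono (c z)
          refine ⟨w, hw, z, hz, ?_⟩
          rw [Function.update_of_ne hwa, Function.update_of_ne hza]
          exact hwz
      · have hsub' : S ⊆ T := by
          intro x hx
          have := hsub hx
          rw [Finset.mem_insert] at this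
          rcases this with rfl | h
          · exact absurd hx haS
          · exact h
        obtain ⟨x, hx, y, hy, hxy⟩ := hc S hS hsub'
        have hxa : x ≠ a := fun h => haS (h ▸ hx)
        have hya : y ≠ a := fun h => haS (h ▸ hy)
        refine ⟨x, hx, y, hy, ?_⟩
        rw [Function.update_of_ne hxa, Function.update_of_ne hya]
        exact hxy
  obtain ⟨c, hc⟩ := key Finset.univ
  exact ⟨c, fun S hS => hc S hS (Finset.subset_univ S)⟩

/-- The commutator of two permutations whose supports meet in exactly one point is a 3-cycle. -/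
theorem commutator_isThreeCycle {Ω : Type*} [Fintype Ω] [DecidableEq Ω] (x y : Perm Ω) (a : Ω)
    (hsupp : x.support ∩ y.support = {a}) : (x * y * x⁻¹ * y⁻¹).IsThreeCycle := by
  have hmem : ∀ w, x w ≠ w → y w ≠ w → w = a := by
    intro w h1 h2
    have : w ∈ x.support ∩ y.support :=
      Finset.mem_inter.2 ⟨Perm.mem_support.2 h1, Perm.mem_support.2 h2⟩
    rw [hsupp] at this
    exact Finset.mem_singleton.1 this
  have hax : x a ≠ a := by
    have : a ∈ x.support ∩ y.support := by rw [hsupp]; simp
    exact Perm.mem_support.1 (Finset.mem_inter.1 this).1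
  have hay : y a ≠ a := by
    have : a ∈ x.support ∩ y.support := by rw [hsupp]; simp
    exact Perm.mem_support.1 (Finset.mem_inter.1 this).2
  -- moved points
  have hxm : ∀ w, x w ≠ w → w ≠ a → y w = w := by
    intro w h1 h2
    by_contra h3
    exact h2 (hmem w h1 h3)
  have hym : ∀ w, y w ≠ w → w ≠ a → x w = w := by
    intro w h1 h2
    by_contra h3
    exact h2 (hmem w h3 h1)
  have hinvx : ∀ w, x w = w → x⁻¹ w = w := by
    intro w h
    rw [Perm.inv_eq_iff_eq]
    exact h.symm
  have hinvy : ∀ w, y w = w → y⁻¹ w = w := by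
    intro w h
    rw [Perm.inv_eq_iff_eq]
    exact h.symm
  set c := x * y * x⁻¹ * y⁻¹ with hc
  have hcapply : ∀ w, c w = x (y (x⁻¹ (y⁻¹ w))) := fun w => rfl
  set p := x a with hp
  set q := y a with hq
  have hpa : p ≠ a := hax
  have hqa : q ≠ a := hay
  have hyp : y p = p := by
    refine hxm p ?_ hpa
    intro h
    exact hax (x.injective h)
  have hxq : x q = q := by
    refine hym q ?_ hqa
    intro h
    exact hay (y.injective h)
  have hpq : p ≠ q := by
    intro h
    rw [h] at hyp
    exact hay (y.injective hyp)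
  -- values
  set a₁ := x⁻¹ a with ha₁
  set a₂ := y⁻¹ a with ha₂
  have hxa₁ : x a₁ = a := by simp [ha₁]
  have hya₂ : y a₂ = a := by simp [ha₂]
  have ha₁a : a₁ ≠ a := by
    intro h
    rw [h] at hxa₁
    exact hax hxa₁
  have ha₂a : a₂ ≠ a := by
    intro h
    rw [h] at hya₂
    exact hay hya₂
  have hya₁ : y a₁ = a₁ := by
    refine hxm a₁ ?_ ha₁a
    rw [hxa₁]
    exact ha₁a.symm
  have hxa₂ : x a₂ = a₂ := by
    refine hym a₂ ?_ ha₂a
    rw [hya₂]
    exact ha₂a.symm
  have hca : c a = p := by
    rw [hcapply]
    rw [← ha₂, hinvx _ hxa₂, hya₂]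
  have hcp : c p = q := by
    rw [hcapply, hinvy _ hyp, hp, show x⁻¹ (x a) = a by simp, ← hq, hxq]
  have hcq : c q = a := by
    rw [hcapply, hq, show y⁻¹ (y a) = a by simp, ← ha₁, hya₁, hxa₁]
  have hother : ∀ w, w ≠ a → w ≠ p → w ≠ q → c w = w := by
    intro w hwa hwp hwq
    rw [hcapply]
    by_cases hyw : y w = w
    · rw [hinvy _ hyw]
      by_cases hxw : x w = w
      · rw [hinvx _ hxw, hyw, hxw]
      · set w₁ := x⁻¹ w with hw₁
        have hxw₁ : x w₁ = w := by simp [hw₁]
        have hw₁a : w₁ ≠ a := by
          intro h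
          rw [h] at hxw₁
          exact hwp hxw₁.symm
        have hw₁ne : x w₁ ≠ w₁ := by
          rw [hxw₁]
          intro h
          apply hxw
          have h5 : x w₁ = w := hxw₁
          rw [← h] at h5
          exact h5
        rw [hxm w₁ hw₁ne hw₁a, hxw₁]
    · have hxw : x w = w := hym w hyw hwa
      set w₂ := y⁻¹ w with hw₂
      have hyw₂ : y w₂ = w := by simp [hw₂]
      have hw₂a : w₂ ≠ a := by
        intro h
        rw [h] at hyw₂
        exact hwq hyw₂.symm
      have hw₂ne : y w₂ ≠ w₂ := by
        rw [hyw₂]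
        intro h
        apply hyw
        have h5 : y w₂ = w := hyw₂
        rw [← h] at h5
        exact h5
      have hxw₂ : x w₂ = w₂ := hym w₂ hw₂ne hw₂a
      rw [hinvx _ hxw₂, hyw₂, hxw]
  have hsupport : c.support = {a, p, q} := by
    ext w
    rw [Perm.mem_support]
    simp only [Finset.mem_insert, Finset.mem_singleton]
    constructor
    · intro h
      by_contra hcon
      push Not at hcon
      exact h (hother w hcon.1 hcon.2.1 hcon.2.2)
    · rintro (rfl | rfl | rfl)
      · rw [hca]
        exact hpa
      · rw [hcp]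
        exact hpq.symm
      · rw [hcq]
        exact hqa.symm
  rw [← _root_.card_support_eq_three_iff, hsupport]
  rw [Finset.card_insert_of_notMem (by simp [hpa.symm, hqa.symm]),
    Finset.card_insert_of_notMem (by simp [hpq]), Finset.card_singleton]

/-- A base of size `b` bounds the order of the group. -/
theorem card_mul_factorial_le {G : Type*} {Ω : Type*} [Group G] [Finite G] [MulAction G Ω]
    [Fintype Ω] [DecidableEq Ω] (Y : Finset Ω)
    (hY : ∀ g : G, (∀ y ∈ Y, g • y = y) → g = 1) :
    Nat.card G * (Fintype.card Ω - Y.card).factorial ≤ (Fintype.card Ω).factorial := by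
  classical
  have := Fintype.ofFinite G
  let f : G → (Y ↪ Ω) := fun g => ⟨fun y => g • (y : Ω), fun a b h => by
    exact Subtype.ext (MulAction.injective g h)⟩
  have hf : Function.Injective f := by
    intro g h hgh
    have : h⁻¹ * g = 1 := by
      apply hY
      intro y hy
      have := congrArg (fun e : Y ↪ Ω => e ⟨y, hy⟩) hgh
      change g • y = h • y at this
      rw [mul_smul, this, inv_smul_smul]
    rw [inv_mul_eq_one] at this
    exact this.symm
  have h1 := Fintype.card_le_of_injective f hf
  rw [Fintype.card_embedding_eq, Fintype.card_coe] at h1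
  have hle : Y.card ≤ Fintype.card Ω := Finset.card_le_univ Y
  have h2 := Nat.factorial_mul_descFactorial hle
  rw [Nat.card_eq_fintype_card, ← h2, mul_comm]
  exact Nat.mul_le_mul_left _ h1

/-- Bochert's theorem. -/
theorem main {G : Type*} {Ω : Type*} [Group G] [Finite G] [MulAction G Ω] [FaithfulSMul G Ω]
    [Fintype Ω] [DecidableEq Ω] (hprim : IsPreprimitive G Ω)
    (hA : ¬ alternatingGroup Ω ≤ (MulAction.toPermHom G Ω).range) :
    Nat.card G * Nat.factorial ((Fintype.card Ω + 1) / 2) ≤ Nat.factorial (Fintype.card Ω) := by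
  classical
  let P : Subgroup (Perm Ω) := (MulAction.toPermHom G Ω).range
  have hPprim : IsPreprimitive P Ω := by
    haveI := hprim
    let φ : G → P := (MulAction.toPermHom G Ω).rangeRestrict
    let f : Ω →ₑ[φ] Ω := { toFun := id, map_smul' := fun g x => rfl }
    exact IsPreprimitive.of_surjective (f := f) Function.surjective_id
  have hno3 : ∀ c : Perm Ω, c ∈ P → ¬ c.IsThreeCycle := by
    intro c hc h3
    exact hA (Perm.alternatingGroup_le_of_isPreprimitive_of_isThreeCycle_mem hPprim h3 hc)
  have hinj : ∀ g : G, (MulAction.toPerm g : Perm Ω) = 1 → g = 1 := by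
    intro g hg
    apply FaithfulSMul.eq_of_smul_eq_smul (α := Ω)
    intro x
    rw [one_smul]
    exact Equiv.congr_fun hg x
  let 𝒮 : Set (Finset Ω) := {S | ∃ g : G, g ≠ 1 ∧ S = (MulAction.toPerm g : Perm Ω).support}
  obtain ⟨c, hc⟩ := property_B 𝒮 (by
      rintro S ⟨g, hg, rfl⟩
      exact Perm.two_le_card_support_of_ne_one (fun h => hg (hinj g h)))
    (by
      rintro S ⟨g, _, rfl⟩ S' ⟨h, _, rfl⟩ hcard
      obtain ⟨a, ha⟩ := Finset.card_eq_one.1 hcard
      have h3 := commutator_isThreeCycle _ _ a ha
      refine hno3 _ ⟨g * h * g⁻¹ * h⁻¹, ?_⟩ h3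
      simp only [map_mul, map_inv]
      rfl)
  -- the colour class with at most `n/2` points
  have hbase : ∀ b : Bool, ∀ g : G, (∀ y ∈ Finset.univ.filter (fun x => c x = b), g • y = y) →
      g = 1 := by
    intro b g hg
    by_contra hg1
    obtain ⟨x, hx, y, hy, hxy⟩ := hc _ ⟨g, hg1, rfl⟩
    have hxb : c x ≠ b := by
      intro h
      rw [Perm.mem_support] at hx
      exact hx (hg x (by simp [h]))
    have hyb : c y ≠ b := by
      intro h
      rw [Perm.mem_support] at hy
      exact hy (hg y (by simp [h]))
    apply hxy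
    cases hcx : c x <;> cases hcy : c y <;> cases b <;> simp_all
  have hsum : (Finset.univ.filter (fun x => c x = true)).card +
      (Finset.univ.filter (fun x => c x = false)).card = Fintype.card Ω := by
    have h := Finset.card_filter_add_card_filter_not (s := (Finset.univ : Finset Ω))
      (fun x => c x = true)
    simp only [Bool.not_eq_true] at h
    rw [h, Finset.card_univ]
  have hfin : ∀ b : Bool, 2 * (Finset.univ.filter (fun x => c x = b)).card ≤ Fintype.card Ω →
      Nat.card G * Nat.factorial ((Fintype.card Ω + 1) / 2) ≤ Nat.factorial (Fintype.card Ω) := by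
    intro b hb
    have h1 := card_mul_factorial_le (G := G) _ (hbase b)
    refine le_trans (Nat.mul_le_mul_left _ (Nat.factorial_le ?_)) h1
    omega
  by_cases h : 2 * (Finset.univ.filter (fun x => c x = true)).card ≤ Fintype.card Ω
  · exact hfin true h
  · exact hfin false (by omega)

end Cfsg.Agent.Lib.PermRec.Bochert
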