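/-
Regular subgroups of permutation groups: the group `Γ` of permutations of the regular subgroup
`C` induced by the point stabilizer.
-/
import Mathlib

set_option autoImplicit false

open scoped Pointwise

namespace Cfsg.Agent.Lib.PermRec.RegularStar

/-- The permutations `Γ` of `H` fixing `1` such that `H Γ` is a group. -/
structure IsStar {H : Type*} [Group H] (Γ : Subgroup (Equiv.Perm H)) : Prop where
  fix_one : ∀ h ∈ Γ, h 1 = 1
  star : ∀ h ∈ Γ, ∀ c : H, ∃ h' ∈ Γ, ∀ x, h (c * x) = h c * h' x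

variable {G Ω : Type*} [Group G] [MulAction G Ω] (C : Subgroup G)

/-- the bijection `C ≃ Ω` of a regular subgroup. -/
noncomputable def regEquiv (hreg : MulAction.IsPretransitive C Ω)
    (hfree : ∀ a : Ω, MulAction.stabilizer C a = ⊥) (ω₀ : Ω) : C ≃ Ω :=
  Equiv.ofBijective (fun c : C => (c : G) • ω₀) (by
    constructor
    · intro c d hcd
      have hcd' : (c : G) • ω₀ = (d : G) • ω₀ := hcd
      have h1 : d⁻¹ * c ∈ MulAction.stabilizer C ω₀ := by
        rw [MulAction.mem_stabilizer_iff]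
        show ((d⁻¹ * c : C) : G) • ω₀ = ω₀
        rw [Subgroup.coe_mul, mul_smul, hcd', Subgroup.coe_inv, inv_smul_smul]
      rw [hfree, Subgroup.mem_bot] at h1
      exact (inv_mul_eq_one.mp h1).symm
    · intro a
      obtain ⟨c, hc⟩ := hreg.exists_smul_eq ω₀ a
      exact ⟨c, hc⟩)

theorem regEquiv_apply (hreg : MulAction.IsPretransitive C Ω)
    (hfree : ∀ a : Ω, MulAction.stabilizer C a = ⊥) (ω₀ : Ω) (c : C) :
    regEquiv C hreg hfree ω₀ c = (c : G) • ω₀ := rfl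

/-- the conjugate action of the stabilizer on `C`. -/
noncomputable def rho (hreg : MulAction.IsPretransitive C Ω)
    (hfree : ∀ a : Ω, MulAction.stabilizer C a = ⊥) (ω₀ : Ω) :
    MulAction.stabilizer G ω₀ →* Equiv.Perm C where
  toFun g := (regEquiv C hreg hfree ω₀).trans
    ((MulAction.toPerm (g : G)).trans (regEquiv C hreg hfree ω₀).symm)
  map_one' := by
    ext c
    simp
  map_mul' a b := by
    ext c
    simp [mul_smul]

theorem regEquiv_rho (hreg : MulAction.IsPretransitive C Ω)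
    (hfree : ∀ a : Ω, MulAction.stabilizer C a = ⊥) (ω₀ : Ω) (g : MulAction.stabilizer G ω₀)
    (c : C) :
    regEquiv C hreg hfree ω₀ (rho C hreg hfree ω₀ g c) = (g : G) • regEquiv C hreg hfree ω₀ c := by
  simp [rho]

/-- The group `Γ`. -/
noncomputable def gammaOf (hreg : MulAction.IsPretransitive C Ω)
    (hfree : ∀ a : Ω, MulAction.stabilizer C a = ⊥) (ω₀ : Ω) : Subgroup (Equiv.Perm C) :=
  (rho C hreg hfree ω₀).range

theorem isStar_gammaOf (hreg : MulAction.IsPretransitive C Ω)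
    (hfree : ∀ a : Ω, MulAction.stabilizer C a = ⊥) (ω₀ : Ω) :
    IsStar (gammaOf C hreg hfree ω₀) := by
  set e := regEquiv C hreg hfree ω₀ with he
  refine ⟨?_, ?_⟩
  · rintro _ ⟨g, rfl⟩
    apply e.injective
    rw [he, regEquiv_rho, regEquiv_apply]
    simp
    exact MulAction.mem_stabilizer_iff.mp g.2
  · rintro _ ⟨g, rfl⟩ c
    set c' := rho C hreg hfree ω₀ g c with hc'
    have h1 : e c' = (g : G) • e c := regEquiv_rho C hreg hfree ω₀ g c
    have hg' : (c' : G)⁻¹ * g * c ∈ MulAction.stabilizer G ω₀ := by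
      rw [MulAction.mem_stabilizer_iff, mul_smul, mul_smul]
      have h2 : (c : G) • ω₀ = e c := rfl
      rw [h2, ← h1]
      show (c' : G)⁻¹ • (c' : G) • ω₀ = ω₀
      rw [inv_smul_smul]
    refine ⟨rho C hreg hfree ω₀ ⟨_, hg'⟩, ⟨_, rfl⟩, fun x => ?_⟩
    apply e.injective
    rw [he, regEquiv_rho, regEquiv_apply, regEquiv_apply, Subgroup.coe_mul, Subgroup.coe_mul,
      mul_smul, mul_smul]
    have h3 : ((rho C hreg hfree ω₀ ⟨_, hg'⟩ x : C) : G) • ω₀ =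
        regEquiv C hreg hfree ω₀ (rho C hreg hfree ω₀ ⟨_, hg'⟩ x) := rfl
    rw [h3, regEquiv_rho, regEquiv_apply]
    simp only [mul_smul, smul_inv_smul]

/-- A subgroup of `C` invariant under `Γ` gives a block. -/
theorem isBlock_image (hreg : MulAction.IsPretransitive C Ω)
    (hfree : ∀ a : Ω, MulAction.stabilizer C a = ⊥) (ω₀ : Ω) (U : Subgroup C)
    (hU : ∀ h ∈ gammaOf C hreg hfree ω₀, ∀ u ∈ U, h u ∈ U) :
    MulAction.IsBlock G ((regEquiv C hreg hfree ω₀) '' (U : Set C)) := by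
  set e := regEquiv C hreg hfree ω₀ with he
  set B := e '' (U : Set C) with hB
  have key : ∀ g : G, ∀ u₁ ∈ U, ∀ u₂ ∈ U, g • e u₁ = e u₂ → g • B ⊆ B := by
    intro g u₁ hu₁ u₂ hu₂ hg
    have hg' : (u₂ : G)⁻¹ * g * u₁ ∈ MulAction.stabilizer G ω₀ := by
      rw [MulAction.mem_stabilizer_iff, mul_smul, mul_smul]
      have h2 : (u₁ : G) • ω₀ = e u₁ := rfl
      rw [h2, hg]
      show (u₂ : G)⁻¹ • (u₂ : G) • ω₀ = ω₀
      rw [inv_smul_smul]
    rintro _ ⟨_, ⟨u, hu, rfl⟩, rfl⟩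
    have hu' : u₁⁻¹ * u ∈ U := U.mul_mem (U.inv_mem hu₁) hu
    have hr := hU _ ⟨⟨_, hg'⟩, rfl⟩ _ hu'
    refine ⟨u₂ * rho C hreg hfree ω₀ ⟨_, hg'⟩ (u₁⁻¹ * u), U.mul_mem hu₂ hr, ?_⟩
    rw [he, regEquiv_apply, Subgroup.coe_mul, mul_smul]
    have h3 : ((rho C hreg hfree ω₀ ⟨_, hg'⟩ (u₁⁻¹ * u) : C) : G) • ω₀ =
        regEquiv C hreg hfree ω₀ (rho C hreg hfree ω₀ ⟨_, hg'⟩ (u₁⁻¹ * u)) := rfl
    rw [h3, regEquiv_rho, regEquiv_apply]
    simp only [Subgroup.coe_mul, Subgroup.coe_inv, mul_smul, smul_inv_smul]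
    rfl
  rw [MulAction.isBlock_iff_smul_eq_of_nonempty]
  intro g hne
  obtain ⟨z, hz1, hz2⟩ := hne
  obtain ⟨_, ⟨u₁, hu₁, rfl⟩, rfl⟩ := hz1
  obtain ⟨u₂, hu₂, hu₂e⟩ := hz2
  apply Set.Subset.antisymm
  · exact key g u₁ hu₁ u₂ hu₂ hu₂e.symm
  · have h1 := key g⁻¹ u₂ hu₂ u₁ hu₁ (by
      change g⁻¹ • e u₂ = e u₁
      rw [hu₂e]
      simp)
    intro b hb
    refine ⟨g⁻¹ • b, h1 ⟨b, hb, rfl⟩, by simp⟩

theorem prim_of_preprimitive (hprim : MulAction.IsPreprimitive G Ω)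
    (hreg : MulAction.IsPretransitive C Ω)
    (hfree : ∀ a : Ω, MulAction.stabilizer C a = ⊥) (ω₀ : Ω) (U : Subgroup C)
    (hU : ∀ h ∈ gammaOf C hreg hfree ω₀, ∀ u ∈ U, h u ∈ U) : U = ⊥ ∨ U = ⊤ := by
  set e := regEquiv C hreg hfree ω₀ with he
  rcases hprim.isTrivialBlock_of_isBlock (isBlock_image C hreg hfree ω₀ U hU) with h | h
  · left
    rw [Subgroup.eq_bot_iff_forall]
    intro u hu
    have h1 := h ⟨u, hu, rfl⟩ ⟨1, U.one_mem, rfl⟩
    exact e.injective h1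
  · right
    rw [eq_top_iff]
    intro c _
    have h1 : e c ∈ e '' (U : Set C) := by rw [h]; exact Set.mem_univ _
    obtain ⟨u, hu, hue⟩ := h1
    rw [← e.injective hue]
    exact hu

theorem two_trans_of_gamma (hreg : MulAction.IsPretransitive C Ω)
    (hfree : ∀ a : Ω, MulAction.stabilizer C a = ⊥) (ω₀ : Ω)
    (htr : ∀ x y : C, x ≠ 1 → y ≠ 1 → ∃ h ∈ gammaOf C hreg hfree ω₀, h x = y) :
    MulAction.IsMultiplyPretransitive G Ω 2 := by
  set e := regEquiv C hreg hfree ω₀ with he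
  rw [MulAction.is_two_pretransitive_iff]
  intro a b c d hab hcd
  obtain ⟨ca, hca⟩ := e.surjective a
  obtain ⟨cc, hcc⟩ := e.surjective c
  have h1 : ∃ x : C, e x = (ca : G)⁻¹ • b := e.surjective _
  have h2 : ∃ y : C, e y = (cc : G)⁻¹ • d := e.surjective _
  obtain ⟨x, hx⟩ := h1
  obtain ⟨y, hy⟩ := h2
  have hca' : (ca : G) • ω₀ = a := hca
  have hcc' : (cc : G) • ω₀ = c := hcc
  have hone : e 1 = ω₀ := by simp [he, regEquiv_apply]
  have hx1 : x ≠ 1 := by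
    rintro rfl
    rw [hone] at hx
    apply hab
    rw [← hca']
    rw [hx, smul_inv_smul]
  have hy1 : y ≠ 1 := by
    rintro rfl
    rw [hone] at hy
    apply hcd
    rw [← hcc']
    rw [hy, smul_inv_smul]
  obtain ⟨_, ⟨g₀, rfl⟩, hg₀⟩ := htr x y hx1 hy1
  have h3 : (g₀ : G) • e x = e y := by
    rw [← hg₀]
    exact (regEquiv_rho C hreg hfree ω₀ g₀ x).symm
  refine ⟨(cc : G) * g₀ * (ca : G)⁻¹, ?_, ?_⟩
  · rw [mul_smul, mul_smul, ← hca', inv_smul_smul, MulAction.mem_stabilizer_iff.mp g₀.2, hcc']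
  · rw [mul_smul, mul_smul, ← hx, h3, hy, smul_inv_smul]

end Cfsg.Agent.Lib.PermRec.RegularStar
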