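/-
Schur's theorem for cyclic groups of non prime power order, in the language of a group `Γ` of
permutations of `H` fixing `1` such that `H Γ` is a group.
-/
import Cfsg.Agent.Lib.PermRec.RegularStar

set_option autoImplicit false

namespace Cfsg.Agent.Lib.PermRec.SchurCyclic

open Cfsg.Agent.Lib.PermRec.RegularStar

section Walk

variable {H : Type*} [CommGroup H] [DecidableEq H]

/-- the number of walks with steps in `T`. -/
def wlk (T : Finset H) : ℕ → H → ℕ
  | 0, y => if y = 1 then 1 else 0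
  | k + 1, y => ∑ x ∈ T, wlk T k (y * x⁻¹)

open MonoidAlgebra in
theorem coeff_pow_eq_wlk (T : Finset H) (r : ℕ) [Fact r.Prime] (k : ℕ) (y : H) :
    ((∑ x ∈ T, MonoidAlgebra.single x (1 : ZMod r)) ^ k).coeff y = (wlk T k y : ZMod r) := by
  induction k generalizing y with
  | zero =>
    rw [pow_zero, MonoidAlgebra.one_def, MonoidAlgebra.coeff_single, Finsupp.single_apply]
    simp only [wlk]
    by_cases h : y = 1
    · simp [h]
    · simp [h, Ne.symm h]
  | succ k ih =>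
    rw [pow_succ, Finset.mul_sum, MonoidAlgebra.coeff_sum, Finsupp.finsetSum_apply]
    simp only [wlk]
    push_cast
    apply Finset.sum_congr rfl
    intro x _
    rw [MonoidAlgebra.coeff_mul_single_eq_coeff_mul (y * x⁻¹), ih, mul_one]
    intro m' _
    constructor
    · intro h; rw [← h]; group
    · intro h; rw [h]; group

theorem card_filter_pow_eq_wlk (T : Finset H) (r : ℕ) [hr : Fact r.Prime] (y : H) :
    ((T.filter fun x => x ^ r = y).card : ZMod r) = (wlk T r y : ZMod r) := by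
  haveI : CharP (MonoidAlgebra (ZMod r) H) r := by
    apply charP_of_injective_algebraMap (R := ZMod r)
    exact (algebraMap (ZMod r) (MonoidAlgebra (ZMod r) H)).injective
  rw [← coeff_pow_eq_wlk, sum_pow_char r]
  simp only [MonoidAlgebra.single_pow, one_pow]
  rw [MonoidAlgebra.coeff_sum, Finsupp.finsetSum_apply, Finset.card_filter]
  push_cast
  apply Finset.sum_congr rfl
  intro x _
  rw [MonoidAlgebra.coeff_single, Finsupp.single_apply]

end Walk

section Core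

variable {H : Type*} [CommGroup H] [Fintype H] [DecidableEq H]

theorem wlk_succ_alt (T : Finset H) (k : ℕ) (y : H) :
    wlk T (k + 1) y = ∑ γ : H, if γ⁻¹ * y ∈ T then wlk T k γ else 0 := by
  rw [← Finset.sum_filter]
  simp only [wlk]
  apply Finset.sum_bij (fun x _ => y * x⁻¹)
  · intro x hx
    simp only [Finset.mem_filter, Finset.mem_univ, true_and]
    have : (y * x⁻¹)⁻¹ * y = x := by group
    rwa [this]
  · intro a _ b _ hab
    exact inv_injective (mul_left_cancel hab)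
  · intro γ hγ
    simp only [Finset.mem_filter, Finset.mem_univ, true_and] at hγ
    exact ⟨γ⁻¹ * y, hγ, by group⟩
  · intro x _
    rfl

theorem mem_iff_of_star {Γ : Subgroup (Equiv.Perm H)} (hΓ : IsStar Γ) {T : Finset H}
    (hT : ∀ h ∈ Γ, ∀ x ∈ T, h x ∈ T) {h : Equiv.Perm H} (hh : h ∈ Γ) (a b : H) :
    (h a)⁻¹ * h b ∈ T ↔ a⁻¹ * b ∈ T := by
  obtain ⟨h', hh', e⟩ := hΓ.star h hh a
  have e1 : (h a)⁻¹ * h b = h' (a⁻¹ * b) := by
    have := e (a⁻¹ * b)
    rw [mul_inv_cancel_left] at this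
    rw [this, inv_mul_cancel_left]
  rw [e1]
  constructor
  · intro h1
    have := hT _ (Γ.inv_mem hh') _ h1
    simpa using this
  · exact hT _ hh' _

theorem wlk_inv {Γ : Subgroup (Equiv.Perm H)} (hΓ : IsStar Γ) {T : Finset H}
    (hT : ∀ h ∈ Γ, ∀ x ∈ T, h x ∈ T) (k : ℕ) :
    ∀ h ∈ Γ, ∀ a b : H, wlk T k ((h a)⁻¹ * h b) = wlk T k (a⁻¹ * b) := by
  induction k with
  | zero =>
    intro h _ a b
    simp only [wlk]
    have : (h a)⁻¹ * h b = 1 ↔ a⁻¹ * b = 1 := by
      rw [inv_mul_eq_one, inv_mul_eq_one]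
      exact h.injective.eq_iff
    simp only [this]
  | succ k ih =>
    intro h hh a b
    rw [wlk_succ_alt, wlk_succ_alt]
    have e1 := Equiv.sum_comp (h.trans (Equiv.mulLeft (h a)⁻¹))
      (fun γ => if γ⁻¹ * ((h a)⁻¹ * h b) ∈ T then wlk T k γ else 0)
    have e2 := Equiv.sum_comp (Equiv.mulLeft a⁻¹)
      (fun γ => if γ⁻¹ * (a⁻¹ * b) ∈ T then wlk T k γ else 0)
    rw [← e1, ← e2]
    apply Finset.sum_congr rfl
    intro δ _
    simp only [Equiv.trans_apply, Equiv.coe_mulLeft]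
    have h1 : ((h a)⁻¹ * h δ)⁻¹ * ((h a)⁻¹ * h b) = (h δ)⁻¹ * h b := by group
    have h2 : (a⁻¹ * δ)⁻¹ * (a⁻¹ * b) = δ⁻¹ * b := by group
    simp only [h1, h2, ih h hh a δ, mem_iff_of_star hΓ hT hh δ b]

theorem closure_invariant {Γ : Subgroup (Equiv.Perm H)} (hΓ : IsStar Γ) {Z : Set H}
    (hZ : ∀ h ∈ Γ, ∀ z ∈ Z, h z ∈ Z) :
    ∀ h ∈ Γ, ∀ u ∈ Subgroup.closure Z, h u ∈ Subgroup.closure Z := by
  intro h hh u hu
  induction hu using Subgroup.closure_induction_left generalizing h with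
  | one => rw [hΓ.fix_one h hh]; exact one_mem _
  | mul_left z hz u hu ih =>
    obtain ⟨h', hh', e⟩ := hΓ.star h hh z
    rw [e]
    exact mul_mem (Subgroup.subset_closure (hZ h hh z hz)) (ih h' hh')
  | inv_mul_cancel z hz u hu ih =>
    obtain ⟨h', hh', e⟩ := hΓ.star h hh z⁻¹
    rw [e]
    apply mul_mem _ (ih h' hh')
    have e2 := e z
    rw [inv_mul_cancel, hΓ.fix_one h hh] at e2
    have e3 : h z⁻¹ = (h' z)⁻¹ := eq_inv_of_mul_eq_one_left e2.symm
    rw [e3]
    exact inv_mem (Subgroup.subset_closure (hZ h' hh' z hz))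

/-- Lemma A: primitivity forces the fibres of the `r`-th power map on basic sets to be multiples
of `r`. -/
theorem dvd_card_filter_pow {Γ : Subgroup (Equiv.Perm H)} (hΓ : IsStar Γ)
    (prim : ∀ U : Subgroup H, (∀ h ∈ Γ, ∀ u ∈ U, h u ∈ U) → U = ⊥ ∨ U = ⊤)
    {T : Finset H} (hT : ∀ h ∈ Γ, ∀ x ∈ T, h x ∈ T) (r : ℕ) [hr : Fact r.Prime]
    (hrd : r ∣ Fintype.card H) (y : H) (hy : y ≠ 1) :
    r ∣ (T.filter fun x => x ^ r = y).card := by
  by_contra hcon
  have hc0 : ((T.filter fun x => x ^ r = y).card : ZMod r) ≠ 0 := by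
    rwa [Ne, ZMod.natCast_eq_zero_iff]
  rw [card_filter_pow_eq_wlk] at hc0
  let Z : Set H := {z | ∃ h ∈ Γ, h y = z}
  have hZ : ∀ h ∈ Γ, ∀ z ∈ Z, h z ∈ Z := by
    rintro h hh _ ⟨h', hh', rfl⟩
    exact ⟨h * h', Γ.mul_mem hh hh', rfl⟩
  have hZr : ∀ z ∈ Z, z ∈ (powMonoidHom r : H →* H).range := by
    rintro _ ⟨h, hh, rfl⟩
    have h1 := wlk_inv hΓ hT r h hh 1 y
    rw [hΓ.fix_one h hh, inv_one, one_mul, one_mul] at h1
    have h2 : ((T.filter fun x => x ^ r = h y).card : ZMod r) ≠ 0 := by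
      rw [card_filter_pow_eq_wlk, h1]
      exact hc0
    have h3 : (T.filter fun x => x ^ r = h y).Nonempty := by
      rw [Finset.nonempty_iff_ne_empty]
      intro he
      rw [he] at h2
      simp at h2
    obtain ⟨x, hx⟩ := h3
    exact ⟨x, (Finset.mem_filter.mp hx).2⟩
  have hU := prim (Subgroup.closure Z) (closure_invariant hΓ hZ)
  have hyZ : y ∈ Subgroup.closure Z :=
    Subgroup.subset_closure ⟨1, Γ.one_mem, rfl⟩
  rcases hU with hU | hU
  · rw [hU, Subgroup.mem_bot] at hyZ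
    exact hy hyZ
  · have h3 : (powMonoidHom r : H →* H).range = ⊤ := by
      rw [eq_top_iff, ← hU]
      exact (Subgroup.closure_le _).mpr hZr
    have h4 : Function.Surjective (powMonoidHom r : H →* H) := MonoidHom.range_eq_top.mp h3
    have h5 : Function.Injective (powMonoidHom r : H →* H) := Finite.injective_iff_surjective.mpr h4
    obtain ⟨a, ha⟩ := exists_prime_orderOf_dvd_card r hrd
    have h6 : (powMonoidHom r : H →* H) a = (powMonoidHom r : H →* H) 1 := by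
      simp only [powMonoidHom_apply, one_pow]
      rw [← ha]
      exact pow_orderOf_eq_one a
    have h7 := h5 h6
    rw [h7, orderOf_one] at ha
    exact hr.out.one_lt.ne ha

/-- Lemma B: basic sets are unions of cosets of `Ω_r`, outside `Ω_r`. -/
theorem mul_mem_of_pow_eq_one [IsCyclic H] {Γ : Subgroup (Equiv.Perm H)} (hΓ : IsStar Γ)
    (prim : ∀ U : Subgroup H, (∀ h ∈ Γ, ∀ u ∈ U, h u ∈ U) → U = ⊥ ∨ U = ⊤)
    {T : Finset H} (hT : ∀ h ∈ Γ, ∀ x ∈ T, h x ∈ T) (r : ℕ) [hr : Fact r.Prime]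
    (hrd : r ∣ Fintype.card H) {x a : H} (hx : x ∈ T) (hxr : x ^ r ≠ 1) (ha : a ^ r = 1) :
    x * a ∈ T := by
  have h1 := dvd_card_filter_pow hΓ prim hT r hrd (x ^ r) hxr
  have hx1 : x ∈ T.filter fun b => b ^ r = x ^ r := by simp [hx]
  have hle : r ≤ (T.filter fun b => b ^ r = x ^ r).card :=
    Nat.le_of_dvd (Finset.card_pos.mpr ⟨x, hx1⟩) h1
  have hle2 : (Finset.univ.filter fun b : H => b ^ r = x ^ r).card ≤ r := by
    refine le_trans ?_ (IsCyclic.card_pow_eq_one_le (α := H) hr.out.pos)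
    apply Finset.card_le_card_of_injOn (fun b => x⁻¹ * b)
    · intro b hb
      simp only [Finset.coe_filter, Finset.mem_univ, true_and, Set.mem_ofPred_eq] at hb ⊢
      rw [mul_pow, hb, inv_pow, inv_mul_cancel]
    · intro b _ c _ hbc
      exact mul_left_cancel hbc
  have hsub : (T.filter fun b => b ^ r = x ^ r) ⊆ (Finset.univ.filter fun b : H => b ^ r = x ^ r) := by
    intro b hb
    simp only [Finset.mem_filter, Finset.mem_univ, true_and] at hb ⊢
    exact hb.2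
  have heq := Finset.eq_of_subset_of_card_le hsub (hle2.trans hle)
  have hxa : x * a ∈ (Finset.univ.filter fun b : H => b ^ r = x ^ r) := by
    simp only [Finset.mem_filter, Finset.mem_univ, true_and]
    rw [mul_pow, ha, mul_one]
  rw [← heq] at hxa
  exact (Finset.mem_filter.mp hxa).1

theorem core [IsCyclic H] {Γ : Subgroup (Equiv.Perm H)} (hΓ : IsStar Γ)
    (prim : ∀ U : Subgroup H, (∀ h ∈ Γ, ∀ u ∈ U, h u ∈ U) → U = ⊥ ∨ U = ⊤)
    {p q : ℕ} (hp : p.Prime) (hq : q.Prime) (hpq : p ≠ q) (hpd : p ∣ Fintype.card H)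
    (hqd : q ∣ Fintype.card H) (x y : H) (hx : x ≠ 1) (hy : y ≠ 1) : ∃ h ∈ Γ, h x = y := by
  haveI := Fact.mk hp
  haveI := Fact.mk hq
  obtain ⟨z₀, hz₀⟩ := exists_prime_orderOf_dvd_card p hpd
  obtain ⟨w₀, hw₀⟩ := exists_prime_orderOf_dvd_card q hqd
  have hz₀p : z₀ ^ p = 1 := by rw [← hz₀]; exact pow_orderOf_eq_one z₀
  have hw₀q : w₀ ^ q = 1 := by rw [← hw₀]; exact pow_orderOf_eq_one w₀
  have hcop : Nat.Coprime p q := (Nat.coprime_primes hp hq).mpr hpq
  have hne1 : ∀ a : H, a ^ p = 1 → a ^ q = 1 → a = 1 := by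
    intro a h1 h2
    have h3 : orderOf a ∣ 1 := by
      rw [← hcop.gcd_eq_one]
      exact Nat.dvd_gcd (orderOf_dvd_of_pow_eq_one h1) (orderOf_dvd_of_pow_eq_one h2)
    exact orderOf_eq_one_iff.mp (Nat.dvd_one.mp h3)
  have hz₀1 : z₀ ≠ 1 := by
    rintro rfl
    rw [orderOf_one] at hz₀
    exact hp.one_lt.ne hz₀
  have hw₀1 : w₀ ≠ 1 := by
    rintro rfl
    rw [orderOf_one] at hw₀
    exact hq.one_lt.ne hw₀
  classical
  let T₀ : Finset H := Finset.univ.filter fun a => ∃ h ∈ Γ, h z₀ = a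
  have hT₀ : ∀ h ∈ Γ, ∀ a ∈ T₀, h a ∈ T₀ := by
    intro h hh a ha
    simp only [T₀, Finset.mem_filter, Finset.mem_univ, true_and] at ha ⊢
    obtain ⟨h', hh', rfl⟩ := ha
    exact ⟨h * h', Γ.mul_mem hh hh', rfl⟩
  have hz₀T : z₀ ∈ T₀ := by
    simp only [T₀, Finset.mem_filter, Finset.mem_univ, true_and]
    exact ⟨1, Γ.one_mem, rfl⟩
  have hLB := @mul_mem_of_pow_eq_one H _ _ _ _ Γ hΓ prim T₀ hT₀
  -- step (a)
  have hz₀q : z₀ ^ q ≠ 1 := fun h => hz₀1 (hne1 z₀ hz₀p h)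
  have hwp : ∀ a : H, a ^ q = 1 → a ≠ 1 → a ^ p ≠ 1 := fun a h h1 h2 => h1 (hne1 a h2 h)
  have hkq : ∀ a : H, a ^ p = 1 → a ≠ 1 → a ^ q ≠ 1 := fun a h h1 h2 => h1 (hne1 a h h2)
  have ha : ∀ w, w ^ q = 1 → z₀ * w ∈ T₀ := fun w hw => hLB q hqd hz₀T hz₀q hw
  -- step (b)
  have hb : ∀ k, k ^ p = 1 → w₀ * k ∈ T₀ := by
    intro k hk
    have h1 := ha w₀ hw₀q
    have h2 : (z₀ * w₀) ^ p ≠ 1 := by
      rw [mul_pow, hz₀p, one_mul]
      exact hwp w₀ hw₀q hw₀1
    have h3 : (z₀⁻¹ * k) ^ p = 1 := by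
      rw [mul_pow, inv_pow, hz₀p, hk]; simp
    have h4 := hLB p hpd h1 h2 h3
    have e : z₀ * w₀ * (z₀⁻¹ * k) = w₀ * k := by
      rw [mul_comm z₀ w₀]; group
    rwa [e] at h4
  -- step (c)
  have hc : ∀ k, k ^ p = 1 → k ≠ 1 → k ∈ T₀ := by
    intro k hk hk1
    have h1 := hb k hk
    have h2 : (w₀ * k) ^ q ≠ 1 := by
      rw [mul_pow, hw₀q, one_mul]
      exact hkq k hk hk1
    have h3 : (w₀⁻¹) ^ q = 1 := by rw [inv_pow, hw₀q, inv_one]
    have h4 := hLB q hqd h1 h2 h3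
    have e : w₀ * k * w₀⁻¹ = k := by rw [mul_comm w₀ k]; group
    rwa [e] at h4
  -- the set `Y`
  let Y : Set H := {a | a = 1 ∨ a ∈ T₀}
  have hYinv : ∀ h ∈ Γ, ∀ a, h a ∈ Y ↔ a ∈ Y := by
    intro h hh a
    constructor
    · rintro (h1 | h1)
      · left
        have := hΓ.fix_one h hh
        exact h.injective (h1.trans this.symm)
      · right
        have := hT₀ _ (Γ.inv_mem hh) _ h1
        simpa using this
    · rintro (h1 | h1)
      · left
        rw [h1]; exact hΓ.fix_one h hh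
      · right; exact hT₀ h hh a h1
  have hYk : ∀ k, k ^ p = 1 → ∀ a ∈ Y, k * a ∈ Y := by
    intro k hk a ha'
    rcases ha' with rfl | ha'
    · by_cases hk1 : k = 1
      · left; simp [hk1]
      · right; rw [mul_one]; exact hc k hk hk1
    · by_cases hap : a ^ p = 1
      · have h1 : (k * a) ^ p = 1 := by rw [mul_pow, hk, hap, one_mul]
        by_cases h2 : k * a = 1
        · left; exact h2
        · right; exact hc _ h1 h2
      · right
        rw [mul_comm]
        exact hLB p hpd ha' hap hk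
  -- the stabilizer of `Y`
  let S : Subgroup H :=
    { carrier := {c | ∀ a, c * a ∈ Y ↔ a ∈ Y}
      one_mem' := by intro a; simp
      mul_mem' := by
        intro c d hc hd a
        rw [mul_assoc]
        exact (hc _).trans (hd a)
      inv_mem' := by
        intro c hc a
        have := hc (c⁻¹ * a)
        rw [mul_inv_cancel_left] at this
        exact this.symm }
  have hz₀S : z₀ ∈ S := by
    intro a
    constructor
    · intro h1
      have h2 := hYk z₀⁻¹ (by rw [inv_pow, hz₀p, inv_one]) _ h1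
      simpa using h2
    · exact hYk z₀ hz₀p a
  have hSinv : ∀ h ∈ Γ, ∀ u ∈ S, h u ∈ S := by
    intro h hh c hcS a
    obtain ⟨h', hh', e⟩ := hΓ.star h hh c
    have e1 := e (h'⁻¹ a)
    have e2 : h' (h'⁻¹ a) = a := by simp
    rw [e2] at e1
    rw [← e1, hYinv h hh]
    have h3 := hcS (h'⁻¹ a)
    rw [h3]
    have h4 := hYinv h' hh' (h'⁻¹ a)
    rw [e2] at h4
    exact h4.symm
  rcases prim S hSinv with h | h
  · rw [h, Subgroup.mem_bot] at hz₀S
    exact absurd hz₀S hz₀1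
  · have hall : ∀ a : H, a ≠ 1 → ∃ h ∈ Γ, h z₀ = a := by
      intro a ha1
      have h1 : a ∈ S := by rw [h]; exact Subgroup.mem_top a
      have h2 := (h1 1).mpr (Or.inl rfl)
      rw [mul_one] at h2
      rcases h2 with h2 | h2
      · exact absurd h2 ha1
      · simpa [T₀] using h2
    obtain ⟨h1, hh1, rfl⟩ := hall x hx
    obtain ⟨h2, hh2, rfl⟩ := hall y hy
    exact ⟨h2 * h1⁻¹, Γ.mul_mem hh2 (Γ.inv_mem hh1), by simp⟩

end Core

end Cfsg.Agent.Lib.PermRec.SchurCyclic
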