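import Cfsg.Agent.Lib.CharSimple.Forward
import Cfsg.Agent.Lib.Perm.Normal

/-!
# The socle of a primitive group
-/

set_option autoImplicit false

open MulAction

namespace Cfsg.Agent.Lib.PermRec.Socle

open Cfsg.Agent.Lib.CharSimple.Forward

variable {G Ω : Type*} [Group G] [MulAction G Ω]

theorem char_simple_of_min {V : Subgroup G} (hV : IsMinNormal V) (H : Subgroup V)
    (hH : H.Characteristic) : H = ⊥ ∨ H = ⊤ := by
  haveI := hV.1
  rcases hV.2.2 (H.map V.subtype) inferInstance (by
    rintro _ ⟨x, _, rfl⟩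
    exact x.2) with h | h
  · left
    exact (Subgroup.map_eq_bot_iff_of_injective _ V.subtype_injective).1 h
  · right
    rw [eq_top_iff]
    intro x _
    have hx : (x : G) ∈ H.map V.subtype := by
      rw [h]
      exact x.2
    obtain ⟨y, hy, hyx⟩ := hx
    have : y = x := Subtype.ext hyx
    rwa [← this]

theorem exists_power [Finite G] {V : Subgroup G} (hV : IsMinNormal V) :
    ∃ (S : Type) (_ : Group S) (_ : IsSimpleGroup S) (n : ℕ), 1 ≤ n ∧
      Nonempty (V ≃* (Fin n → S)) := by
  haveI : Nontrivial V := (Subgroup.nontrivial_iff_ne_bot V).2 hV.2.1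
  exact forward (char_simple_of_min hV)

/-- A subgroup centralising a transitive subgroup has trivial stabilisers. -/
theorem eq_one_of_centralizes [FaithfulSMul G Ω] {V : Subgroup G} (hV : IsPretransitive V Ω)
    {g : G} (hg : ∀ v ∈ V, g * v = v * g) {ω : Ω} (hω : g • ω = ω) : g = 1 := by
  apply FaithfulSMul.eq_of_smul_eq_smul (α := Ω)
  intro x
  obtain ⟨v, hv⟩ := hV.exists_smul_eq ω x
  have hv' : (v : G) • ω = x := hv
  rw [one_smul, ← hv', ← mul_smul, hg v v.2, mul_smul, hω]

/-- Distinct minimal normal subgroups have trivial intersection. -/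
theorem inf_eq_bot {V W : Subgroup G} (hV : IsMinNormal V) (hW : IsMinNormal W) (h : V ≠ W) :
    V ⊓ W = ⊥ := by
  haveI := hV.1
  haveI := hW.1
  rcases hV.2.2 (V ⊓ W) inferInstance inf_le_left with h1 | h1
  · exact h1
  · exfalso
    have hVW : V ≤ W := inf_eq_left.1 h1
    rcases hW.2.2 V inferInstance hVW with h2 | h2
    · exact hV.2.1 h2
    · exact h h2

theorem commute_of_inf_eq_bot {V W : Subgroup G} (hV : V.Normal) (hW : W.Normal)
    (h : V ⊓ W = ⊥) {v w : G} (hv : v ∈ V) (hw : w ∈ W) : v * w = w * v := by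
  have hc : v * w * v⁻¹ * w⁻¹ ∈ V ⊓ W := by
    refine ⟨?_, ?_⟩
    · have : v * w * v⁻¹ * w⁻¹ = v * (w * v⁻¹ * w⁻¹) := by group
      rw [this]
      exact V.mul_mem hv (hV.conj_mem _ (V.inv_mem hv) _)
    · exact W.mul_mem (hW.conj_mem _ hw _) (W.inv_mem hw)
  rw [h, Subgroup.mem_bot] at hc
  have h2 : v * w * v⁻¹ = w := by
    rw [mul_inv_eq_one] at hc
    exact hc
  rw [mul_inv_eq_iff_eq_mul] at h2
  exact h2

/-- Regular commuting subgroups are isomorphic. -/
theorem nonempty_mulEquiv_of_regular [FaithfulSMul G Ω] [Nonempty Ω] {V W : Subgroup G}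
    (hVt : IsPretransitive V Ω) (hWt : IsPretransitive W Ω)
    (hcomm : ∀ v ∈ V, ∀ w ∈ W, v * w = w * v) : Nonempty (V ≃* W) := by
  classical
  obtain ⟨ω₀⟩ := ‹Nonempty Ω›
  have hex : ∀ v : V, ∃ w : W, (w : G) • ω₀ = (v : G) • ω₀ := fun v => hWt.exists_smul_eq ω₀ _
  choose ψ hψ using hex
  have hWreg : ∀ w w' : W, (w : G) • ω₀ = (w' : G) • ω₀ → w = w' := by
    intro w w' h
    have h1 : ((w' : G)⁻¹ * w) • ω₀ = ω₀ := by rw [mul_smul, h, inv_smul_smul]
    have h2 := eq_one_of_centralizes hVt (g := (w' : G)⁻¹ * w) (fun v hv => by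
      have h3 : Commute (w : G) v := (hcomm v hv w w.2).symm
      have h4 : Commute (w' : G) v := (hcomm v hv w' w'.2).symm
      exact (h4.inv_left.mul_left h3).eq) h1
    rw [inv_mul_eq_one] at h2
    exact Subtype.ext h2.symm
  have hVreg : ∀ v v' : V, (v : G) • ω₀ = (v' : G) • ω₀ → v = v' := by
    intro v v' h
    have h1 : ((v' : G)⁻¹ * v) • ω₀ = ω₀ := by rw [mul_smul, h, inv_smul_smul]
    have h2 := eq_one_of_centralizes hWt (g := (v' : G)⁻¹ * v) (fun w hw => by
      have h3 : Commute (v : G) w := hcomm v v.2 w hw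
      have h4 : Commute (v' : G) w := hcomm v' v'.2 w hw
      exact (h4.inv_left.mul_left h3).eq) h1
    rw [inv_mul_eq_one] at h2
    exact Subtype.ext h2.symm
  have hmul : ∀ a b : V, ψ (a * b) = ψ b * ψ a := by
    intro a b
    apply hWreg
    rw [hψ]
    simp only [Subgroup.coe_mul, mul_smul]
    rw [hψ a, ← mul_smul (ψ b : G) (a : G), ← hcomm a a.2 _ (ψ b).2, mul_smul, hψ b]
  let f : V →* W := MonoidHom.mk' (fun v => (ψ v)⁻¹) (fun a b => by rw [hmul, mul_inv_rev])
  have hf : Function.Bijective f := by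
    constructor
    · intro a b hab
      have h1 : ψ a = ψ b := inv_injective hab
      apply hVreg
      rw [← hψ a, ← hψ b, h1]
    · intro w
      obtain ⟨v, hv⟩ := hVt.exists_smul_eq ω₀ ((w : G)⁻¹ • ω₀)
      refine ⟨v, ?_⟩
      have hv' : (v : G) • ω₀ = (w : G)⁻¹ • ω₀ := hv
      have h1 : ψ v = w⁻¹ := by
        apply hWreg
        rw [hψ, hv']
        rfl
      change (ψ v)⁻¹ = w
      rw [h1, inv_inv]
  exact ⟨MulEquiv.ofBijective f hf⟩

/-- Product of two complementary commuting subgroups. -/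
theorem nonempty_prod_equiv_sup {V W : Subgroup G} (hV : V.Normal) (hW : W.Normal)
    (h : V ⊓ W = ⊥) : Nonempty (↥(V ⊔ W) ≃* V × W) := by
  have hcomm : ∀ (v : V) (w : W), Commute (V.subtype v) (W.subtype w) := fun v w =>
    commute_of_inf_eq_bot hV hW h v.2 w.2
  let f₀ : V × W →* G := MonoidHom.noncommCoprod V.subtype W.subtype hcomm
  have hf₀ : ∀ p : V × W, f₀ p = (p.1 : G) * p.2 := fun p => rfl
  let f : V × W →* ↥(V ⊔ W) := f₀.codRestrict (V ⊔ W) (fun p => by
    rw [hf₀]
    exact Subgroup.mul_mem_sup p.1.2 p.2.2)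
  have hf : Function.Bijective f := by
    constructor
    · rintro ⟨a, b⟩ ⟨c, d⟩ hab
      have h1 : (a : G) * b = c * d := congrArg Subtype.val hab
      have h2 : (c : G)⁻¹ * a = d * (b : G)⁻¹ := by
        rw [inv_mul_eq_iff_eq_mul, ← mul_assoc, ← h1, mul_inv_cancel_right]
      have h3 : (c : G)⁻¹ * a ∈ V ⊓ W :=
        ⟨V.mul_mem (V.inv_mem c.2) a.2, by rw [h2]; exact W.mul_mem d.2 (W.inv_mem b.2)⟩
      rw [h, Subgroup.mem_bot] at h3
      have h4 : (a : G) = c := by
        rw [inv_mul_eq_one] at h3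
        exact h3.symm
      have h5 : (b : G) = d := by
        rw [h4] at h1
        exact mul_left_cancel h1
      exact Prod.ext (Subtype.ext h4) (Subtype.ext h5)
    · rintro ⟨x, hx⟩
      rw [Subgroup.mem_sup_of_normal_right] at hx
      obtain ⟨v, hv, w, hw, rfl⟩ := hx
      exact ⟨(⟨v, hv⟩, ⟨w, hw⟩), rfl⟩
  exact ⟨(MulEquiv.ofBijective f hf).symm⟩

/-- The main theorem. -/
theorem main [Finite G] [FaithfulSMul G Ω] [Finite Ω]
    (hprim : IsPreprimitive G Ω) (N : Subgroup G)
    (hN : N = sSup {V : Subgroup G | V.Normal ∧ V ≠ ⊥ ∧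
      ∀ M : Subgroup G, M.Normal → M ≤ V → M = ⊥ ∨ M = V}) :
    (∃ p : ℕ, p.Prime ∧ IsMulCommutative N ∧ (∀ x : N, x ^ p = 1) ∧
      MulAction.IsPretransitive N Ω ∧ ∀ ω : Ω, MulAction.stabilizer N ω = ⊥) ∨
    (∃ (T : Type) (_ : Group T) (m : ℕ), 1 ≤ m ∧ IsSimpleGroup T ∧ ¬ IsMulCommutative T ∧
      Nonempty (N ≃* (Fin m → T))) := by
  classical
  have htrans : ∀ V : Subgroup G, IsMinNormal V → IsPretransitive V Ω := by
    intro V hV
    haveI := hV.1
    exact Cfsg.Agent.Lib.Perm.Normal.isPretransitive_of_normal_of_ne_bot hprim V hV.2.1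
  set 𝓜 : Set (Subgroup G) := {V : Subgroup G | V.Normal ∧ V ≠ ⊥ ∧
      ∀ M : Subgroup G, M.Normal → M ≤ V → M = ⊥ ∨ M = V} with h𝓜
  have h𝓜' : ∀ V, V ∈ 𝓜 ↔ IsMinNormal V := fun V => Iff.rfl
  rcases subsingleton_or_nontrivial G with hG | hG
  · -- trivial group
    left
    have hNb : ∀ x : N, x = 1 := fun x => Subsingleton.elim _ _
    refine ⟨2, Nat.prime_two, ⟨⟨fun a b => by rw [hNb a, hNb b]⟩⟩, fun x => by rw [hNb x, one_pow],
      ⟨fun x y => ?_⟩, fun ω => ?_⟩
    · obtain ⟨g, hg⟩ := hprim.exists_smul_eq x y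
      refine ⟨1, ?_⟩
      rw [one_smul, ← hg, Subsingleton.elim g 1, one_smul]
    · rw [eq_bot_iff]
      intro x _
      exact Subgroup.mem_bot.2 (hNb x)
  obtain ⟨V, hV⟩ := exists_isMinNormal (G := G)
  haveI hVn := hV.1
  have hVt := htrans V hV
  haveI : Nontrivial V := (Subgroup.nontrivial_iff_ne_bot V).2 hV.2.1
  haveI : Nonempty Ω := by
    by_contra hcon
    rw [not_nonempty_iff] at hcon
    obtain ⟨x, hx⟩ := exists_ne (1 : G)
    apply hx
    apply FaithfulSMul.eq_of_smul_eq_smul (α := Ω)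
    intro a
    exact isEmptyElim a
  by_cases htwo : ∃ W, W ∈ 𝓜 ∧ W ≠ V
  · -- two minimal normal subgroups
    right
    obtain ⟨W, hW, hWV⟩ := htwo
    have hW' : IsMinNormal W := hW
    haveI hWn := hW'.1
    have hWt := htrans W hW'
    have hinf : V ⊓ W = ⊥ := inf_eq_bot hV hW' (Ne.symm hWV)
    have hcomm : ∀ v ∈ V, ∀ w ∈ W, v * w = w * v := fun v hv w hw =>
      commute_of_inf_eq_bot hVn hWn hinf hv hw
    -- the only ones
    have hother : ∀ U, U ∈ 𝓜 → U = V ∨ U = W := by
      intro U hU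
      by_contra hcon
      push Not at hcon
      obtain ⟨hUV, hUW⟩ := hcon
      have hU' : IsMinNormal U := hU
      haveI hUn := hU'.1
      have hinf1 : U ⊓ V = ⊥ := inf_eq_bot hU' hV hUV
      have hinf2 : U ⊓ W = ⊥ := inf_eq_bot hU' hW' hUW
      -- an element of `U` agreeing with an element of `W` at a point
      obtain ⟨u, hu⟩ : ∃ u : G, u ∈ U ∧ u ≠ 1 := by
        by_contra hcon
        push Not at hcon
        apply hU'.2.1
        rw [eq_bot_iff]
        intro x hx
        exact Subgroup.mem_bot.2 (hcon x hx)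
      obtain ⟨ω₀⟩ := ‹Nonempty Ω›
      obtain ⟨w, hw⟩ := hWt.exists_smul_eq ω₀ (u • ω₀)
      have hw' : (w : G) • ω₀ = u • ω₀ := hw
      have h1 : ((w : G)⁻¹ * u) • ω₀ = ω₀ := by rw [mul_smul, ← hw', inv_smul_smul]
      have h2 := eq_one_of_centralizes hVt (g := (w : G)⁻¹ * u) (fun v hv => by
        have h3 : Commute (w : G) v := (hcomm v hv w w.2).symm
        have h4 : Commute u v := commute_of_inf_eq_bot hUn hVn hinf1 hu.1 hv
        exact (h3.inv_left.mul_left h4).eq) h1
      rw [inv_mul_eq_one] at h2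
      have h5 : u ∈ U ⊓ W := ⟨hu.1, by rw [← h2]; exact w.2⟩
      rw [hinf2, Subgroup.mem_bot] at h5
      exact hu.2 h5
    have hNeq : N = V ⊔ W := by
      rw [hN]
      apply le_antisymm
      · apply sSup_le
        intro U hU
        rcases hother U hU with rfl | rfl
        · exact le_sup_left
        · exact le_sup_right
      · exact sup_le (le_sSup hV) (le_sSup hW)
    obtain ⟨S, iS, hS, n, hn, ⟨eV⟩⟩ := exists_power hV
    obtain ⟨eVW⟩ := nonempty_mulEquiv_of_regular hVt hWt hcomm
    obtain ⟨eN⟩ := nonempty_prod_equiv_sup hVn hWn hinf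
    -- `V` is not abelian
    have hVna : ¬ IsMulCommutative S := by
      intro hc
      -- `V` is commutative, hence inside the centraliser, which is `W`
      have hVc : ∀ a b : V, a * b = b * a := by
        intro a b
        apply eV.injective
        rw [map_mul, map_mul]
        funext i
        exact hc.is_comm.comm _ _
      -- each non-trivial element of `V` agrees at a point with an element of `W`
      obtain ⟨v, hv⟩ := exists_ne (1 : V)
      obtain ⟨ω₀⟩ := ‹Nonempty Ω›
      obtain ⟨w, hw⟩ := hWt.exists_smul_eq ω₀ ((v : G) • ω₀)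
      have hw' : (w : G) • ω₀ = (v : G) • ω₀ := hw
      have h1 : ((w : G)⁻¹ * v) • ω₀ = ω₀ := by rw [mul_smul, ← hw', inv_smul_smul]
      have h2 := eq_one_of_centralizes hVt (g := (w : G)⁻¹ * v) (fun x hx => by
        have h3 : Commute (w : G) x := (hcomm x hx w w.2).symm
        have h4 : Commute (v : G) x := congrArg Subtype.val (hVc v ⟨x, hx⟩)
        exact (h3.inv_left.mul_left h4).eq) h1
      rw [inv_mul_eq_one] at h2
      have h5 : (v : G) ∈ V ⊓ W := ⟨v.2, by rw [← h2]; exact w.2⟩
      rw [hinf, Subgroup.mem_bot] at h5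
      exact hv (Subtype.ext h5)
    -- the isomorphism
    refine ⟨S, iS, n + n, by omega, hS, hVna, ?_⟩
    subst hNeq
    let app : (Fin n → S) × (Fin n → S) ≃* (Fin (n + n) → S) :=
      { toFun := fun p => Fin.append p.1 p.2
        invFun := fun f => (fun i => f (Fin.castAdd n i), fun i => f (Fin.natAdd n i))
        left_inv := by
          rintro ⟨a, b⟩
          refine Prod.ext ?_ ?_
          · funext i
            exact Fin.append_left a b i
          · funext i
            exact Fin.append_right a b i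
        right_inv := by
          intro f
          funext i
          refine Fin.addCases (fun j => ?_) (fun j => ?_) i
          · exact Fin.append_left _ _ j
          · exact Fin.append_right _ _ j
        map_mul' := by
          rintro ⟨a, b⟩ ⟨c, d⟩
          funext i
          refine Fin.addCases (fun j => ?_) (fun j => ?_) i
          · change Fin.append (a * c) (b * d) _ = Fin.append a b _ * Fin.append c d _
            rw [Fin.append_left, Fin.append_left, Fin.append_left]
            rfl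
          · change Fin.append (a * c) (b * d) _ = Fin.append a b _ * Fin.append c d _
            rw [Fin.append_right, Fin.append_right, Fin.append_right]
            rfl }
    exact ⟨eN.trans ((MulEquiv.prodCongr eV ((eVW.symm).trans eV)).trans app)⟩
  · -- a unique minimal normal subgroup
    push Not at htwo
    have hNeq : N = V := by
      rw [hN]
      apply le_antisymm
      · apply sSup_le
        intro U hU
        rw [htwo U hU]
      · exact le_sSup hV
    subst hNeq
    by_cases hab : ∀ a b : N, a * b = b * a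
    · left
      -- a prime
      obtain ⟨p, hp, hpd⟩ : ∃ p, p.Prime ∧ p ∣ Nat.card N :=
        ⟨(Nat.card N).minFac, Nat.minFac_prime (Finite.one_lt_card).ne', Nat.minFac_dvd _⟩
      haveI := Fact.mk hp
      obtain ⟨x, hx⟩ := exists_prime_orderOf_dvd_card' p hpd
      let A : Subgroup G :=
        { carrier := {g | ∃ h : g ∈ N, (⟨g, h⟩ : N) ^ p = 1}
          one_mem' := ⟨N.one_mem, by
            have : (⟨1, N.one_mem⟩ : N) = 1 := rfl
            rw [this, one_pow]⟩
          mul_mem' := by
            rintro a b ⟨ha, ha'⟩ ⟨hb, hb'⟩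
            refine ⟨N.mul_mem ha hb, ?_⟩
            have h1 : (⟨a * b, N.mul_mem ha hb⟩ : N) = ⟨a, ha⟩ * ⟨b, hb⟩ := rfl
            rw [h1, (show Commute (⟨a, ha⟩ : N) ⟨b, hb⟩ from hab _ _).mul_pow, ha', hb', one_mul]
          inv_mem' := by
            rintro a ⟨ha, ha'⟩
            refine ⟨N.inv_mem ha, ?_⟩
            have h1 : (⟨a⁻¹, N.inv_mem ha⟩ : N) = (⟨a, ha⟩ : N)⁻¹ := rfl
            rw [h1, inv_pow, ha', inv_one] }
      have hAn : A.Normal := ⟨by
        rintro a ⟨ha, ha'⟩ g
        refine ⟨hVn.conj_mem a ha g, ?_⟩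
        have h1 : ((⟨a, ha⟩ : N) ^ p : N).1 = 1 := by rw [ha']; rfl
        apply Subtype.ext
        change (g * a * g⁻¹) ^ p = 1
        rw [conj_pow]
        have h2 : a ^ p = 1 := h1
        rw [h2]
        group⟩
      have hAle : A ≤ N := fun a ha => ha.1
      have hAtop : A = N := by
        rcases hV.2.2 A hAn hAle with h | h
        · exfalso
          have hxA : (x : G) ∈ A := ⟨x.2, by
            have : (⟨(x : G), x.2⟩ : N) = x := rfl
            rw [this, ← hx, pow_orderOf_eq_one]⟩
          rw [h, Subgroup.mem_bot] at hxA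
          have hx1 : x = 1 := Subtype.ext hxA
          rw [hx1, orderOf_one] at hx
          exact hp.one_lt.ne hx
        · exact h
      refine ⟨p, hp, ⟨⟨hab⟩⟩, ?_, hVt, ?_⟩
      · intro a
        have ha : (a : G) ∈ A := by rw [hAtop]; exact a.2
        obtain ⟨_, h2⟩ := ha
        exact h2
      · intro ω
        rw [eq_bot_iff]
        intro a ha
        have h1 := eq_one_of_centralizes hVt (g := (a : G)) (fun v hv =>
          congrArg Subtype.val (hab a ⟨v, hv⟩)) ha
        exact Subgroup.mem_bot.2 (Subtype.ext h1)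
    · right
      obtain ⟨S, iS, hS, n, hn, ⟨eV⟩⟩ := exists_power hV
      refine ⟨S, iS, n, hn, hS, ?_, ⟨eV⟩⟩
      intro hc
      apply hab
      intro a b
      apply eV.injective
      rw [map_mul, map_mul]
      funext i
      exact hc.is_comm.comm _ _

end Cfsg.Agent.Lib.PermRec.Socle
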